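import Cfsg.Agent.Lib.Peterfalvi.Sec11.Core
import Cfsg.Agent.Lib.Peterfalvi.Sec10Derived
import Cfsg.Agent.Lib.CharExtend.PRational
import Cfsg.Agent.Lib.Coherence.FrobKernel
import Cfsg.Agent.Lib.Ito.Basic

/-!
# Peterfalvi (11.8): the characters fit `Core` (owner: helper43)

* `Sec11.exists_witness` : `W₂` is not in the kernel of a nonprincipal column
* `Sec11.coherent_above` : with `q + 1 < p`, `S(C)` is coherent for a section `T / C` of `M'`
  that is abelian, contains the image of `M''` and has index `μ(1)`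
-/

set_option autoImplicit false

namespace Cfsg.Agent.Peterfalvi.Sec11

open scoped Pointwise commutatorElement ComplexConjugate
open Cfsg OddMax Cfsg.Agent.Char Cfsg.Agent.Coherence Cfsg.Agent.CyclicTI

universe u

variable {G : Type u} [Group G]

/-- The linear characters of `W₁ ⊔ W₂` trivial on `S`. -/
def trivOn (W₁ W₂ S : Subgroup G) : Subgroup (↥(W₁ ⊔ W₂) →* ℂˣ) where
  carrier := {φ | ∀ w : ↥(W₁ ⊔ W₂), (w : G) ∈ S → φ w = 1}
  one_mem' := fun _ _ => rfl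
  mul_mem' := fun {a b} ha hb w hw => by rw [MonoidHom.mul_apply, ha w hw, hb w hw, one_mul]
  inv_mem' := fun {a} ha w hw => by rw [MonoidHom.inv_apply, ha w hw, inv_one]

/-- Fixed by the automorphisms of `ℂ` fixing the `m`-th roots of unity. -/
def Rat' {X : Type*} (m : ℕ) (α : X → ℂ) : Prop :=
  ∀ f : ℂ ≃+* ℂ, (∀ z : ℂ, z ^ m = 1 → f z = z) → ∀ x, f (α x) = α x

theorem Rat'.sub {X : Type*} {m : ℕ} {α β : X → ℂ} (hα : Rat' m α) (hβ : Rat' m β) :
    Rat' m (α - β) := fun f hf x => by rw [Pi.sub_apply, map_sub, hα f hf, hβ f hf]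

theorem Rat'.zsmul {X : Type*} {m : ℕ} {α : X → ℂ} (hα : Rat' m α) (n : ℤ) :
    Rat' m (n • α) := fun f hf x => by
  rw [Pi.smul_apply, zsmul_eq_mul, map_mul, map_intCast, hα f hf]

theorem rat'_one {X : Type*} (m : ℕ) : Rat' m (1 : X → ℂ) := fun f _ _ => map_one f

theorem dade_twist {A : Set G} {L : Subgroup G} {R : G → Subgroup G} (f : ℂ ≃+* ℂ) (α : L → ℂ)
    (hα : ∀ x, f (α x) = α x) (g : G) :
    f (dadeIsometry A L R α g) = dadeIsometry A L R α g := by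
  simp only [dadeIsometry]
  split_ifs
  · exact hα _
  · exact map_zero f

theorem rat'_character {L : Type*} [Group L] [Finite L] {K : Subgroup L} {χ : L → ℂ}
    (hχ : IsCharacter L χ) (hoff : ∀ x, x ∉ K → χ x = 0) : Rat' (Nat.card K) χ := by
  intro f hf x
  by_cases hx : x ∈ K
  · have h := PRational.galois_apply (n := Nat.card K) (k := 1) dvd_rfl f
      (fun z hz => by rw [hf z hz, pow_one]) (IsCharacter.restrict hχ K) ⟨x, hx⟩
    simpa using h
  · rw [hoff x hx, map_zero]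

variable [Fintype G]

theorem signed_apply_inv {χ : G → ℂ} (hχ : IsSignedIrr G χ) (g : G) : χ g⁻¹ = conj (χ g) := by
  rcases hχ with h | h
  · exact IsCharacter.apply_inv (IsIrrCharacter.isCharacter h) g
  · have := IsCharacter.apply_inv (IsIrrCharacter.isCharacter h) g
    simpa using this

theorem signed_twist (f : ℂ ≃+* ℂ) {χ : G → ℂ} (hχ : IsSignedIrr G χ) :
    IsSignedIrr G (fun g => f (χ g)) := by
  rcases hχ with h | h
  · exact Or.inl (GaloisPow.isIrrCharacter_twist f.toRingHom h)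
  · refine Or.inr ?_
    have := GaloisPow.isIrrCharacter_twist f.toRingHom h
    convert this using 1
    funext g
    simp

theorem classInner_twist (f : ℂ ≃+* ℂ) (θ : G → ℂ) {χ : G → ℂ} (hχ : IsSignedIrr G χ) :
    classInner (fun g => f (θ g)) (fun g => f (χ g)) = f (classInner θ χ) := by
  simp only [classInner, map_mul, map_inv₀, map_natCast, map_sum]
  refine congrArg _ (Finset.sum_congr rfl fun g _ => ?_)
  rw [← signed_apply_inv hχ g, ← signed_apply_inv (signed_twist f hχ) g]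

variable {M W₁ W₂ : Subgroup G} [Fintype ↥M] {μ : (↥(W₁ ⊔ W₂) →* ℂˣ) → ↥M → ℂ}
  {δ : (↥(W₁ ⊔ W₂) →* ℂˣ) → ℂ} {η : (↥(W₁ ⊔ W₂) →* ℂˣ) → G → ℂ}
  {R : (↥M → ℂ) → Finset (G → ℂ)} (h : TypePChars M W₁ W₂ μ δ η R)
include h

/-- `W₂` is not in the kernel of a nonprincipal column. -/
theorem exists_witness {ω : ↥(W₁ ⊔ W₂) →* ℂˣ} (hω : ¬ SameCol ω 1) :
    ∃ a : ↥(derivedIn M), ((a : ↥M) : G) ∈ W₂ ∧
      resK M ⁅M, M⁆ (μ ω) a ≠ resK M ⁅M, M⁆ (μ ω) 1 := by
  by_contra hc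
  push Not at hc
  refine hω fun u hu => ?_
  have hT := h.dade.toPrimeTI
  obtain ⟨a, -, -, ha2⟩ := hT.exists_off
  have hu' : μ ω (hT.emb u) = μ ω 1 := hc ⟨hT.emb u, hT.W₂_le hu⟩ hu
  have h1 : μ ω (hT.emb u * hT.emb a) = μ ω (hT.emb a) := TwoClassChar.ker_mul (h.mu.irr ω) hu' _
  have hn : ((u * a : ↥(W₁ ⊔ W₂)) : G) ∉ W₂ := fun e => ha2 (by
    simpa using W₂.mul_mem (W₂.inv_mem hu) e)
  rw [← map_mul, h.mu.apply_W ω _ hn, h.mu.apply_W ω a ha2, map_mul, Units.val_mul] at h1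
  have h2 : (ω u : ℂ) * (ω a : ℂ) = ω a := mul_left_cancel₀ (h.mu.sign_ne ω) h1
  refine Units.ext ?_
  rw [MonoidHom.one_apply, Units.val_one]
  exact mul_left_eq_self₀.1 h2 |>.resolve_right (Units.ne_zero _)

/-- The coefficients of a rational virtual character on the nontrivial rows of the first column
are equal. -/
theorem gal_const (hq : (Nat.card W₁).Prime) {β : ↥M → ℂ} (hgc : IsGeneralizedCharacter ↥M β)
    (hsupp : ∀ x : ↥M, (x : G) ∉ coreA0 M → β x = 0) (hrat : Rat' (Nat.card (derivedIn M)) β)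
    (i i' : trivOn W₁ W₂ W₂) (hi : i ≠ 1) (hi' : i' ≠ 1) :
    classInner (dadeIsometry (coreA0 M) M (supportR M) β) (η i) =
      classInner (dadeIsometry (coreA0 M) M (supportR M) β) (η i') := by
  classical
  have := finite_lin ↥(W₁ ⊔ W₂)
  have hT := h.dade.toPrimeTI
  have hP := hT.isPair
  have := Fact.mk hq
  have hcard : Nat.card (trivOn W₁ W₂ W₂) = Nat.card W₁ := card_lin_factor₁ hP hT.comm
  obtain ⟨c, hc⟩ : ∃ c : ℕ, i ^ c = i' := mem_powers_of_prime_card hcard hi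
  have hic : (i : ↥(W₁ ⊔ W₂) →* ℂˣ) ^ c = i' := congrArg Subtype.val hc
  have hcq : c.Coprime (Nat.card W₁) := by
    refine ((hq.coprime_iff_not_dvd).2 fun hd => hi' ?_).symm
    obtain ⟨d, rfl⟩ := hd
    rw [← hc, pow_mul, ← hcard, pow_card_eq_one', one_pow]
  have hcop : (Nat.card W₁).Coprime (Nat.card (derivedIn M)) := by
    have h1 := hT.setup.coprime
    have h2 : Nat.card (W₁.subgroupOf M) = Nat.card W₁ :=
      Nat.card_congr (Subgroup.subgroupOfEquivOfLe hT.W₁_le).toEquiv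
    have h3 := (W₁.subgroupOf M).card_mul_index.trans (Subgroup.card_mul_index (derivedIn M)).symm
    rw [h2] at h1 h3
    rw [show (derivedIn M).index = Nat.card W₁ from hT.index_K, mul_comm (Nat.card (derivedIn M))] at h3
    rwa [Nat.eq_of_mul_eq_mul_left Nat.card_pos h3] at h1
  obtain ⟨k, hk1, hk2⟩ := Nat.chineseRemainder hcop c 1
  have hkc : k.Coprime (Nat.card W₁ * Nat.card (derivedIn M)) :=
    Nat.Coprime.mul_right (by rw [Nat.Coprime, Nat.ModEq.gcd_eq hk1]; exact hcq)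
      (by rw [Nat.Coprime, Nat.ModEq.gcd_eq hk2]; exact Nat.gcd_one_left _)
  obtain ⟨f, hf⟩ := GaloisPow.exists_ringAut
    (Nat.mul_ne_zero Nat.card_pos.ne' Nat.card_pos.ne') hkc
  have hf' : ∀ z : ℂ, z ^ Nat.card (derivedIn M) = 1 → f z = z := fun z hz => by
    rw [hf z (by rw [mul_comm, pow_mul, hz, one_pow]), pow_eq_pow_mod k hz, hk2,
      ← pow_eq_pow_mod 1 hz, pow_one]
  have hτ : (fun g => f (dadeIsometry (coreA0 M) M (supportR M) β g)) =
      dadeIsometry (coreA0 M) M (supportR M) β :=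
    funext fun g => dade_twist f β (hrat f hf') g
  have hηi : (fun g => f (η i g)) = η i' := by
    refine eq_of_eq_on h.dade.ti (hT.odd.of_dvd_nat (Subgroup.card_dvd_of_le hT.sup_le)) h.eta
      (signed_twist f (h.eta.irr_or_neg _)) _ fun w h1 h2 => ?_
    show f (η i w) = ((i' : ↥(W₁ ⊔ W₂) →* ℂˣ) w : ℂ)
    rw [h.eta.eq_on _ w h1 h2, ← hic, MonoidHom.pow_apply, Units.val_pow_eq_pow_val]
    have hz : ((i : ↥(W₁ ⊔ W₂) →* ℂˣ) w : ℂ) ^ Nat.card W₁ = 1 := by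
      have e : (i : ↥(W₁ ⊔ W₂) →* ℂˣ) ^ Nat.card W₁ = 1 := by
        rw [← hcard]
        exact congrArg Subtype.val (pow_card_eq_one' (x := i))
      rw [← Units.val_pow_eq_pow_val, ← MonoidHom.pow_apply, e, MonoidHom.one_apply, Units.val_one]
    rw [hf _ (by rw [pow_mul, hz, one_pow]), pow_eq_pow_mod k hz, hk1, ← pow_eq_pow_mod c hz]
  have hD : DadeHypothesis (coreA0 M) M (supportR M) := h.a0_eq ▸ h.dade.dade
  obtain ⟨N, hN⟩ := classInner_gc_int (Dade.dadeIsometry_isGeneralized hD hgc hsupp)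
    (isGC_signed (h.eta.irr_or_neg (i : ↥(W₁ ⊔ W₂) →* ℂˣ)))
  have := classInner_twist f (dadeIsometry (coreA0 M) M (supportR M) β)
    (h.eta.irr_or_neg (i : ↥(W₁ ⊔ W₂) →* ℂˣ))
  rw [hτ, hηi, hN, map_intCast] at this
  rw [hN, this]

/-- (11.8) -/
theorem coherent_above (hσ : ⁅M, M⁆ = sigmaCore M)
    (hA : ∀ x ∈ ⁅M, M⁆, x ≠ 1 → x ∈ coreA0 M) (hq : (Nat.card W₁).Prime)
    (hlt : Nat.card W₁ + 1 < Nat.card W₂)
    {T C : Subgroup G} (hCT : C ≤ T) (hTD : T ≤ ⁅M, M⁆) (hTn : M ≤ Subgroup.normalizer (T : Set G))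
    (hCn : M ≤ Subgroup.normalizer (C : Set G)) (hTC : ∀ a ∈ T, ∀ b ∈ T, a * b * a⁻¹ * b⁻¹ ∈ C)
    (hDT : ⁅⁅M, M⁆, ⁅M, M⁆⁆ ≤ T) (hWT : W₂ ≤ T)
    {ω₁ : ↥(W₁ ⊔ W₂) →* ℂˣ} (hω₁ : ω₁ ∈ trivOn W₁ W₂ W₁) (hω1 : ω₁ ≠ 1)
    {u : ℕ} (hu : T.relIndex ⁅M, M⁆ = u) (hdeg : μ ω₁ 1 = (u : ℂ))
    (hu2 : 2 ≤ u) (humod : u ≡ 1 [MOD Nat.card W₁]) :
    IsCoherent (inducedIrrAbove (derivedIn M) (C.subgroupOf M)) {1}ᶜ
      (dadeIsometry (coreA0 M) M (supportR M)) := by
  classical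
  have := finite_lin ↥(W₁ ⊔ W₂)
  have hT := h.dade.toPrimeTI
  have hP := hT.isPair
  set q := Nat.card W₁ with hqdef
  set p := Nat.card W₂ with hpdef
  set K := derivedIn M with hKdef
  have : Fintype ↥K := Fintype.ofFinite _
  have hidx : K.index = q := hT.index_K
  have hTN : (T.subgroupOf M).Normal := Subgroup.normal_subgroupOf_of_le_normalizer hTn
  have hCN : (C.subgroupOf M).Normal := Subgroup.normal_subgroupOf_of_le_normalizer hCn
  have hDM : ⁅M, M⁆ ≤ M := hT.K_le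
  have hD : DadeHypothesis (coreA0 M) M (supportR M) := h.a0_eq ▸ h.dade.dade
  have hωc : ¬ SameCol ω₁ 1 := fun e => hω1 (hP.lin_ext (fun w hw => hω₁ w hw) e)
  have hq3 : 3 ≤ q := hT.three_le₁
  -- the sign and `n`
  obtain ⟨n, hn⟩ : q ∣ u - 1 := (Nat.modEq_iff_dvd' (by omega)).1 humod.symm
  have hun : u = n * q + 1 := by rw [mul_comm]; omega
  have huodd : Odd u :=
    (hT.odd.of_dvd_nat (Subgroup.card_dvd_of_le hDM)).of_dvd_nat
      (hu ▸ Subgroup.relIndex_dvd_card _ _)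
  have hn2 : 2 ≤ n := by
    obtain ⟨a, ha⟩ := huodd
    rcases n with _ | _ | n
    · omega
    · obtain ⟨b, hb⟩ := hT.odd_W₁; omega
    · omega
  have hδ : δ ω₁ = 1 := by
    refine (h.mu.sign ω₁).resolve_right fun e => ?_
    obtain ⟨m, hm⟩ := h.mu.congr ω₁
    rw [hdeg, e, hun] at hm
    have h2 : ((2 : ℤ) : ℂ) = (((m - n) * q : ℤ) : ℂ) := by
      push_cast at hm ⊢
      linear_combination hm
    have h3 : (2 : ℤ) = (m - n) * q := by exact_mod_cast h2
    have := Int.le_of_dvd (by norm_num : (0 : ℤ) < 2)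
      (⟨m - n, h3.trans (mul_comm _ _)⟩ : (q : ℤ) ∣ 2)
    omega
  -- the sets
  have hfin : ∀ A : Subgroup ↥M, (inducedIrrAbove K A).Finite := fun A => by
    refine Set.Finite.subset (Set.finite_range fun θ : IrrCharacter ↥K => indFun K (θ : ↥K → ℂ)) ?_
    rintro φ ⟨θ, hθ, -, -, rfl⟩
    exact ⟨⟨θ, hθ⟩, rfl⟩
  set S : Finset (↥M → ℂ) := (hfin (C.subgroupOf M)).toFinset with hSdef
  set S₁ : Finset (↥M → ℂ) := (hfin (T.subgroupOf M)).toFinset with hS₁def
  have hS : ∀ {φ}, φ ∈ S ↔ φ ∈ inducedIrrAbove K (C.subgroupOf M) :=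
    (hfin _).mem_toFinset
  have hS₁ : ∀ {φ}, φ ∈ S₁ ↔ φ ∈ inducedIrrAbove K (T.subgroupOf M) :=
    (hfin _).mem_toFinset
  have hsub : S₁ ⊆ S := fun φ hφ => hS.2 (inducedSet_mono (A := T.subgroupOf M) (B := C.subgroupOf M) (fun a ha => hCT ha) (hS₁.1 hφ))
  have hSeq : ∀ {φ}, φ ∈ S → φ ∈ seqIndD M (sigmaCore M) ⊥ := fun hφ => by
    rw [← inducedIrrAbove_eq_seqIndD hσ.le]
    exact inducedSet_le_bot _ (hS.1 hφ)
  have hSoff : ∀ {φ}, φ ∈ S → ∀ x : ↥M, (x : G) ∉ ⁅M, M⁆ → φ x = 0 := fun hφ x hx =>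
    h.dade.calS_vanish_off (by rw [pdCalS_eq_seqIndD]; exact hSeq hφ) x hx
  have hSchar : ∀ {φ}, φ ∈ S → IsCharacter ↥M φ := fun hφ =>
    h.dade.calS_isCharacter (by rw [pdCalS_eq_seqIndD]; exact hSeq hφ)
  -- degrees
  have hTKle : T.subgroupOf M ≤ K := fun a ha => hTD ha
  have hKu : (T.subgroupOf M).relIndex K = u := by
    rw [hKdef, derivedIn, Subgroup.relIndex_subgroupOf hDM, hu]
  have hdegS : ∀ {φ}, φ ∈ S → ∃ d : ℕ, d ≤ u ∧ φ 1 = ((q * d : ℕ) : ℂ) := by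
    intro φ hφ
    obtain ⟨θ, rfl, -, hker, hd⟩ := inducedSet_degree _ (hS.1 hφ)
    refine ⟨charDegree (θ : ↥K → ℂ), ?_, by rw [hd, hidx]⟩
    set N := (C.subgroupOf M).subgroupOf K with hN
    obtain ⟨ψ, hψ⟩ := Codegree.exists_quot θ N fun a ha => hker a ha
    set A := ((T.subgroupOf M).subgroupOf K).map (QuotientGroup.mk' N) with hAdef
    have : A.Normal := Subgroup.Normal.map inferInstance _ (QuotientGroup.mk'_surjective N)
    obtain ⟨d, hd0, hd1, hd2⟩ := Ito.exists_degree_dvd_index ψ.2 A (by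
      rintro _ ⟨a, ha, rfl⟩ _ ⟨b, hb, rfl⟩
      rw [← map_mul, ← map_mul]
      refine QuotientGroup.eq.2 ?_
      show (((a * b)⁻¹ * (b * a) : ↥K) : ↥M).1 ∈ C
      have := hTC _ (T.inv_mem hb) _ (T.inv_mem ha)
      simpa [mul_assoc] using this)
    have hA : A.index = u := by
      rw [hAdef, Subgroup.index_map_eq _ (QuotientGroup.mk'_surjective N)]
      · exact hKu
      · rw [QuotientGroup.ker_mk']
        exact fun a ha => hCT ha
    have he : (θ : ↥K → ℂ) 1 = (d : ℂ) := (hψ 1).symm.trans hd1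
    rw [TwoClassChar.deg_eq θ.2] at he
    have he' : charDegree (θ : ↥K → ℂ) = d := by exact_mod_cast he
    rw [he', ← hA]
    exact Nat.le_of_dvd (Nat.pos_of_ne_zero Subgroup.index_ne_zero_of_finite) hd2
  let dd : (↥M → ℂ) → ℕ := fun φ => if hd : φ ∈ S then (hdegS hd).choose else 0
  have hdd : ∀ {φ}, φ ∈ S → dd φ ≤ u ∧ φ 1 = ((q * dd φ : ℕ) : ℂ) := fun hφ => by
    simp only [dd, dif_pos hφ]
    exact (hdegS hφ).choose_spec
  have hdeg₁ : ∀ {φ}, φ ∈ S₁ → φ 1 = (q : ℂ) := fun hφ => by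
    rw [FrobK.degree_of_commutator_le (H := K) (A := T.subgroupOf M) ?_ (hS₁.1 hφ), hidx]
    rw [Subgroup.commutator_le]
    intro a ha b hb
    exact hDT (Subgroup.commutator_mem_commutator (G := G) ha hb)
  have hdd₁ : ∀ {φ}, φ ∈ S₁ → dd φ = 1 := fun {φ} hφ => by
    have h1 := (hdd (hsub hφ)).2
    rw [hdeg₁ hφ] at h1
    have h2 : q = q * dd φ := by exact_mod_cast h1
    exact (Nat.mul_eq_left (by omega)).1 h2.symm
  have hirr : ∀ {φ}, φ ∈ S₁ → IsIrrCharacter ↥M φ ∧ ∀ ω, classInner φ (μ ω) = 0 := by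
    intro φ hφ
    refine (h.cases (hSeq (hsub hφ))).resolve_left ?_
    rintro ⟨ω, hω, rfl⟩
    obtain ⟨θ, hθ, hθ1, hker, e⟩ := hS₁.1 hφ
    obtain ⟨a, haW, hne⟩ := exists_witness h hω
    refine hne ((eq_of_indFun_eq (T.subgroupOf M) hTKle hθ (h.mu.resK_facts ω).1 ?_ hθ1 hker).2 a
      (hWT haW))
    exact (h.mu.resK_facts ω).2.trans e
  have hcard₁ : S₁.card = n := by
    have h1 := sum_sq_div (K := K) (T.subgroupOf M) hTKle S₁ ((hfin _).coe_toFinset)
    rw [hKu, hidx, Finset.sum_congr rfl (g := fun _ => (q : ℂ) ^ 2)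
      (fun φ hφ => by rw [hdeg₁ hφ, classInner_irr_self (hirr hφ).1, div_one]),
      Finset.sum_const, nsmul_eq_mul, hun] at h1
    push_cast at h1
    have hq0 : (q : ℂ) ^ 2 ≠ 0 := pow_ne_zero _ (Nat.cast_ne_zero.2 (by omega))
    have h2 : (S₁.card : ℂ) = n := mul_right_cancel₀ hq0 (by linear_combination h1)
    exact_mod_cast h2
  obtain ⟨ζ, hζ⟩ : S₁.Nonempty := Finset.card_pos.1 (by omega)
  have hζS := hsub hζ
  -- the principal column
  set μ₀ : ↥M → ℂ := colSum μ 1 with hμ₀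
  have hμ₀K : ∀ x : ↥M, (x : G) ∈ ⁅M, M⁆ → μ₀ x = q := fun x hx => by
    rw [hμ₀, h.mu.colSum_apply_K 1 hx, h.mu.mu_one.1, mul_one]
  have hμ₀off : ∀ x : ↥M, (x : G) ∉ ⁅M, M⁆ → μ₀ x = 0 := fun x hx => by
    rw [hμ₀, ← (h.mu.resK_facts 1).2]
    have := hT.normal
    exact CliffordChar.indFun_not_mem (⁅M, M⁆.subgroupOf M) _ hx
  have hμ₀char : IsCharacter ↥M μ₀ := by
    rw [hμ₀, ← (h.mu.resK_facts 1).2]
    exact IsCharacter.indFun (H := ⁅M, M⁆.subgroupOf M) (IsIrrCharacter.isCharacter (h.mu.resK_facts 1).1)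
  have hone : μ 1 = (1 : ↥M → ℂ) := h.mu.mu_one.1
  -- rationality
  have hrS : ∀ {φ}, φ ∈ S → Rat' (Nat.card K) φ := fun hφ =>
    rat'_character (hSchar hφ) fun x hx => hSoff hφ x hx
  have hr₀ : Rat' (Nat.card K) μ₀ := rat'_character hμ₀char fun x hx => hμ₀off x hx
  have hrμ : Rat' (Nat.card K) (μ ω₁) := by
    intro f hf x
    by_cases hx : (x : G) ∈ ⁅M, M⁆
    · have := PRational.galois_apply (n := Nat.card K) (k := 1) dvd_rfl f
        (fun z hz => by rw [hf z hz, pow_one]) (IsIrrCharacter.isCharacter (h.mu.resK_facts ω₁).1)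
        ⟨x, hx⟩
      simpa [resK] using this
    · obtain ⟨g, w, hw, rfl⟩ := hT.exists_conj_W hx
      rw [IsIrrCharacter.isClassFunction (h.mu.irr ω₁), h.mu.apply_W ω₁ w hw, hδ, one_mul]
      refine hf _ ?_
      obtain ⟨m, hm⟩ : p ∣ Nat.card K := by
        rw [hKdef, derivedIn, Nat.card_congr (Subgroup.subgroupOfEquivOfLe hDM).toEquiv]
        exact Subgroup.card_dvd_of_le hT.W₂_le
      rw [hm, pow_mul]
      have : (ω₁ w : ℂ) ^ p = 1 := by
        rw [← Units.val_pow_eq_pow_val, ← hP.lsnd_eq hω₁, show hP.lsnd ω₁ w = ω₁ (hP.p₂ w) from rfl,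
          ← map_pow, show (hP.p₂ w) ^ p = 1 from Subtype.ext (by
            rw [SubmonoidClass.coe_pow, OneMemClass.coe_one]
            exact congrArg Subtype.val (pow_card_eq_one' (G := W₂) (x := ⟨_, hP.p₂_mem w⟩))),
          map_one, Units.val_one]
      rw [this, one_pow]
  -- admissible functions
  let Adm : (↥M → ℂ) → Prop := fun α =>
    IsGeneralizedCharacter ↥M α ∧ ∀ x : ↥M, (x : G) ∉ coreA0 M → α x = 0
  have hadm : ∀ {α : ↥M → ℂ}, IsGeneralizedCharacter ↥M α → α 1 = 0 →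
      (∀ x : ↥M, (x : G) ∉ ⁅M, M⁆ → α x = 0) → Adm α := by
    intro α hα h1 hoff
    refine ⟨hα, fun x hx => ?_⟩
    by_cases hxK : (x : G) ∈ ⁅M, M⁆
    · by_cases hx1 : x = 1
      · rw [hx1, h1]
      · exact absurd (hA _ hxK fun e => hx1 (Subtype.ext e)) hx
    · exact hoff x hxK
  have hadm₀ : Adm (μ₀ - ζ) := hadm
    (isGC_sub (isGC_of_isCharacter hμ₀char) (isGC_of_isCharacter (hSchar hζS)))
    (by rw [Pi.sub_apply, hμ₀K 1 (one_mem _), hdeg₁ hζ, sub_self])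
    fun x hx => by rw [Pi.sub_apply, hμ₀off x hx, hSoff hζS x hx, sub_self]
  have hadmT : ∀ φ ∈ S, Adm (φ - (dd φ : ℤ) • ζ) := fun φ hφ => hadm
    (isGC_sub (isGC_of_isCharacter (hSchar hφ)) (isGC_zsmul (isGC_of_isCharacter (hSchar hζS)) _))
    (by rw [Pi.sub_apply, Pi.smul_apply, (hdd hφ).2, hdeg₁ hζ, zsmul_eq_mul]; push_cast; ring)
    fun x hx => by rw [Pi.sub_apply, Pi.smul_apply, hSoff hφ x hx, hSoff hζS x hx, smul_zero, sub_zero]
  have hα1 : ∀ w : ↥(W₁ ⊔ W₂), (w : G) ∉ W₂ →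
      (μ ω₁ - 1 - (n : ℤ) • ζ) (hT.emb w) = (ω₁ w : ℂ) - 1 := fun w hw => by
    rw [Pi.sub_apply, Pi.sub_apply, Pi.smul_apply, h.mu.apply_W ω₁ w hw, hδ, one_mul,
      hSoff hζS _ (fun hK => hw (hT.mem₂_of_mem_K w.2 hK)), smul_zero, sub_zero, Pi.one_apply]
  have hadmα : Adm (μ ω₁ - 1 - (n : ℤ) • ζ) := by
    refine ⟨isGC_sub (isGC_sub (isGC_of_irr (h.mu.irr ω₁)) (hone ▸ isGC_of_irr (h.mu.irr 1)))
      (isGC_zsmul (isGC_of_isCharacter (hSchar hζS)) _), fun x hx => ?_⟩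
    by_cases hxK : (x : G) ∈ ⁅M, M⁆
    · by_cases hx1 : x = 1
      · rw [hx1, Pi.sub_apply, Pi.sub_apply, Pi.smul_apply, hdeg, hdeg₁ hζ, hun, Pi.one_apply,
          zsmul_eq_mul]
        push_cast; ring
      · exact absurd (hA _ hxK fun e => hx1 (Subtype.ext e)) hx
    · obtain ⟨g, w, hw, rfl⟩ := hT.exists_conj_W hxK
      by_cases hw1 : (w : G) ∈ W₁
      · have hcl : IsClassFunction ↥M (μ ω₁ - 1 - (n : ℤ) • ζ) :=
          isGC_isClassFunction (isGC_sub (isGC_sub (isGC_of_irr (h.mu.irr ω₁))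
            (hone ▸ isGC_of_irr (h.mu.irr 1))) (isGC_zsmul (isGC_of_isCharacter (hSchar hζS)) _))
        rw [hcl, hα1 w hw, hω₁ w hw1, Units.val_one, sub_self]
      · refine absurd ?_ hx
        rw [← h.a0_eq]
        exact Or.inr ⟨g, g.2, w, w.2, hw1, hw, rfl⟩
  -- the grid
  have : Fintype (trivOn W₁ W₂ W₂) := Fintype.ofFinite _
  have : Fintype (trivOn W₁ W₂ W₁) := Fintype.ofFinite _
  have hI : Fintype.card (trivOn W₁ W₂ W₂) = q := by
    rw [← Nat.card_eq_fintype_card]; exact card_lin_factor₁ hP hT.comm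
  have hJ : Fintype.card (trivOn W₁ W₂ W₁) = p := by
    rw [← Nat.card_eq_fintype_card]; exact card_lin_factor₂ hP hT.comm
  let j₁ : trivOn W₁ W₂ W₁ := ⟨ω₁, hω₁⟩
  let ηg : trivOn W₁ W₂ W₂ → trivOn W₁ W₂ W₁ → G → ℂ := fun i j => η (i.1 * j.1)
  have hη1 : η 1 = (1 : G → ℂ) := h.eta.map_one
  have hrect : ∀ θ : G → ℂ, IsClassFunction G θ →
      (∀ w : ↥(W₁ ⊔ W₂), (w : G) ∉ W₁ → (w : G) ∉ W₂ → θ w = 0) → ∀ i j,
      classInner θ (ηg i j) + classInner θ (ηg 1 1) = classInner θ (ηg i 1) + classInner θ (ηg 1 j) :=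
    fun θ hθ hθV i j => S1506.rectangle hP h.eta hθ hθV (φ := i.1) (φ' := (1 : trivOn W₁ W₂ W₂).1)
      (ψ := j.1) (ψ' := (1 : trivOn W₁ W₂ W₁).1) i.2 (one_mem (trivOn W₁ W₂ W₂)) j.2
      (one_mem (trivOn W₁ W₂ W₁))
  have hτcl : ∀ {α}, Adm α → IsClassFunction G (dadeIsometry (coreA0 M) M (supportR M) α) :=
    fun hα => Dade.dadeIsometry_isClassFunction hD (isGC_isClassFunction hα.1)
  have hgal : ∀ β, Adm β → Rat' (Nat.card K) β → ∀ i i' : trivOn W₁ W₂ W₂, i ≠ 1 → i' ≠ 1 →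
      classInner (dadeIsometry (coreA0 M) M (supportR M) β) (ηg i 1) =
        classInner (dadeIsometry (coreA0 M) M (supportR M) β) (ηg i' 1) := by
    intro β hβ hr i i' hi hi'
    simp only [ηg, OneMemClass.coe_one, mul_one]
    exact gal_const h hq hβ.1 hβ.2 hr i i' hi hi'
  have hinner1 : ∀ {φ}, φ ∈ S → classInner φ (1 : ↥M → ℂ) = 0 ∧ classInner φ μ₀ = 0 ∧
      (classInner φ (μ ω₁) = 0 ∨ classInner φ (μ ω₁) = 1) ∧
      ∃ N : ℤ, 1 ≤ N ∧ N ≤ q ∧ classInner φ φ = (N : ℂ) := by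
    intro φ hφ
    rw [← hone]
    rcases h.cases (hSeq hφ) with ⟨ω, hω, rfl⟩ | ⟨hi, ho⟩
    · have hne : ¬ SameCol (1 : ↥(W₁ ⊔ W₂) →* ℂˣ) ω := fun e => hω e.symm
      refine ⟨classInner_symm_zero ?_, ?_, ?_, q, by omega, le_rfl, ?_⟩
      · rw [h.mu.inner_mu_colSum, if_neg hne]
      · rw [hμ₀, h.mu.inner_colSum, if_neg hω]
      · by_cases e : SameCol ω₁ ω
        · refine Or.inr ?_
          rw [← classInner_conj_symm, h.mu.inner_mu_colSum, if_pos e, map_one]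
        · exact Or.inl (classInner_symm_zero (by rw [h.mu.inner_mu_colSum, if_neg e]))
      · rw [h.mu.inner_colSum, if_pos (sameCol_refl ω), Int.cast_natCast]
    · refine ⟨ho 1, ?_, Or.inl (ho ω₁), 1, le_rfl, by omega, ?_⟩
      · rw [hμ₀, colSum, classInner_sum_right]
        exact Finset.sum_eq_zero fun π _ => ho π
      · rw [classInner_irr_self hi, Int.cast_one]
  have hcore : Core (dadeIsometry (coreA0 M) M (supportR M)) Adm ηg 1 1 j₁ n μ₀ ζ (μ ω₁) S S₁ dd :=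
    { three := by rw [hI]; exact hq3
      lt := by rw [hI, hJ]; exact hlt
      ne := fun e => hω1 (congrArg Subtype.val e)
      two := hn2
      add := dadeIsometry_add
      zsmul := dadeIsometry_zsmul
      inner := fun α β hα hβ => dadeIsometry_inner hD (isGC_isClassFunction hα.1) hα.2
        (isGC_isClassFunction hβ.1) hβ.2
      gc := fun α hα => Dade.dadeIsometry_isGeneralized hD hα.1 hα.2
      inner_one := fun α hα => by
        simp only [ηg, OneMemClass.coe_one, one_mul, hη1]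
        refine Dade.classInner_dade hD (isGC_isClassFunction hα.1) hα.2 1 1 (fun _ _ => rfl)
          fun a _ => ?_
        simp [Finset.card_univ, Nat.card_eq_fintype_card]
      eta_gc := fun i j => isGC_signed (h.eta.irr_or_neg _)
      eta := fun i j i' j' => by
        simp only [ηg, h.eta.orthonormal]
        by_cases e' : i = i' ∧ j = j'
        · rw [if_pos e', if_pos (by rw [e'.1, e'.2])]
        rw [if_neg e', if_neg fun e => e' ?_]
        obtain ⟨a, b⟩ := hP.split_mul i.2 j.2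
        obtain ⟨a', b'⟩ := hP.split_mul i'.2 j'.2
        exact ⟨Subtype.ext (a.symm.trans ((congrArg hP.lfst e).trans a')),
          Subtype.ext (b.symm.trans ((congrArg hP.lsnd e).trans b'))⟩
      adm₀ := hadm₀
      admα := hadmα
      admT := hadmT
      rect₀ := hrect _ (hτcl hadm₀) (h.tau_apply_V (isGC_isClassFunction hadm₀.1)
        fun x hx => by rw [Pi.sub_apply, hμ₀off x hx, hSoff hζS x hx, sub_self])
      rectT := fun φ hφ => hrect _ (hτcl (hadmT φ hφ)) (h.tau_apply_V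
        (isGC_isClassFunction (hadmT φ hφ).1) fun x hx => by
          rw [Pi.sub_apply, Pi.smul_apply, hSoff hφ x hx, hSoff hζS x hx, smul_zero, sub_zero])
      rectα := hrect _ (isClassFunction_sub (hτcl hadmα)
          (isClassFunction_sub (isGC_isClassFunction (isGC_signed (h.eta.irr_or_neg _)))
            (isGC_isClassFunction (isGC_signed (h.eta.irr_or_neg _)))))
        (fun w h1 h2 => by
          have hmem : ((hT.emb w : ↥M) : G) ∈ coreA0 M := by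
            rw [← h.a0_eq]; exact h.dade.mem_a0Set h1 h2
          simp only [ηg, OneMemClass.coe_one, one_mul, mul_one, Pi.sub_apply]
          have := dadeIsometry_self hD (isGC_isClassFunction hadmα.1) (hT.emb w) hmem
          rw [hα1 w h2] at this
          rw [show (w : G) = ((hT.emb w : ↥M) : G) from rfl, this,
            show η ω₁ ((hT.emb w : ↥M) : G) = (ω₁ w : ℂ) from h.eta.eq_on ω₁ w h1 h2,
            show η 1 ((hT.emb w : ↥M) : G) = 1 by rw [hη1]; rfl]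
          ring)
      gal₀ := hgal _ hadm₀ (hr₀.sub (hrS hζS))
      galT := fun φ hφ => hgal _ (hadmT φ hφ) ((hrS hφ).sub ((hrS hζS).zsmul _))
      galα := hgal _ hadmα ((hrμ.sub (rat'_one _)).sub ((hrS hζS).zsmul _))
      one_one := by rw [← hone, h.mu.inner_mu, if_pos rfl]
      μ₀_μ₀ := by rw [hI, hμ₀, h.mu.inner_colSum, if_pos (sameCol_refl _)]
      μ₀_one := by
        rw [← hone, hμ₀, ← classInner_conj_symm, h.mu.inner_mu_colSum, if_pos (sameCol_refl _),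
          map_one]
      μ_μ := by rw [h.mu.inner_mu, if_pos rfl]
      μ_one := by rw [← hone, h.mu.inner_mu, if_neg hω1]
      μ_μ₀ := by rw [hμ₀, h.mu.inner_mu_colSum, if_neg hωc]
      ζ_mem := hζ
      T₁_sub := hsub
      T₁_card := hcard₁.ge
      T₁_deg := fun φ hφ => ⟨hdd₁ hφ, classInner_irr_self (hirr hφ).1, (hirr hφ).2 ω₁⟩
      T_one := fun φ hφ => (hinner1 hφ).1
      T_μ₀ := fun φ hφ => (hinner1 hφ).2.1
      T_μ := fun φ hφ => (hinner1 hφ).2.2.1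
      T_orth := fun φ hφ ψ hψ hne => h.dade.calS_orth h.mu
        (by rw [pdCalS_eq_seqIndD]; exact hSeq hφ) (by rw [pdCalS_eq_seqIndD]; exact hSeq hψ) hne
      T_norm := fun φ hφ => by rw [hI]; exact (hinner1 hφ).2.2.2
      T_deg := fun φ hφ => by rw [hI, ← hun]; exact (hdd hφ).1 }
  have hres := hcore.coherent (fun φ hφ => by rw [hI]; exact (hdd hφ).2) (by
    obtain ⟨φ, hφ, hne⟩ := Finset.exists_mem_ne (by omega : 1 < S₁.card) ζ
    exact ⟨φ, hsub hφ, hne⟩)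
  rwa [(hfin _).coe_toFinset] at hres

end Cfsg.Agent.Peterfalvi.Sec11
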