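import Cfsg.Agent.Lib.Coherence.Criteria

/-!
# Peterfalvi (11.8): the computation behind `p < q` (owner: helper43)

`Core` collects what is used about the Dade map `τ` of a subgroup of Type III or IV and the grid
`η i j` of the cyclic TI family when `|I| + 1 < |J|` (that is `q + 1 < p`):
`a₀ = μ₀ - ζ`, `α = μ - 1 - n ζ` and `φ - d φ ζ` for the members `φ` of the set `T`.

* `Core.tau_alpha` : `τ α = η i₀ j₁ - η i₀ j₀ - n e` where `e = ∑ η i j₀ - τ a₀`
* `Core.coherent` : `T` is coherent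
-/

set_option autoImplicit false

namespace Cfsg.Agent.Peterfalvi

open Cfsg Cfsg.Agent.Char Cfsg.Agent.Coherence

universe u v

variable {L : Type u} [Group L] [Fintype L] {G : Type v} [Group G] [Fintype G]

/-- Bessel's inequality for integral coefficients. -/
theorem bessel_int {ι : Type*} [Fintype ι] [DecidableEq ι] (v : ι → G → ℂ) (hv : ∀ i j, classInner (v i) (v j) = if i = j then 1 else 0) {β : G → ℂ} {c : ι → ℤ}
    (hc : ∀ i, classInner β (v i) = c i) {N : ℤ} (hN : classInner β β = (N : ℂ)) :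
    ∑ i, c i ^ 2 ≤ N := by
  have h := (bessel Finset.univ v (fun _ => 1) (fun _ _ => one_pos)
    (fun i _ => by rw [hv i i]; simp) (fun i _ j _ hij => by rw [hv i j, if_neg hij]) β).1
  have h' : ((∑ i, c i ^ 2 : ℤ) : ℝ) ≤ (N : ℝ) := by
    rw [hN, Complex.intCast_re] at h
    refine le_trans (le_of_eq ?_) h
    push_cast
    refine Finset.sum_congr rfl fun i _ => ?_
    rw [hc i, Complex.norm_intCast, sq_abs, div_one]
  exact_mod_cast h'

/-- The hypotheses of the computation. -/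
structure Core {I J : Type*} [Fintype I] [Fintype J] [DecidableEq I] [DecidableEq J]
    (τ : (L → ℂ) → (G → ℂ)) (Adm : (L → ℂ) → Prop) (η : I → J → G → ℂ) (i₀ : I) (j₀ j₁ : J)
    (n : ℕ) (μ₀ ζ μ : L → ℂ) (T T₁ : Finset (L → ℂ)) (d : (L → ℂ) → ℕ) : Prop where
  three : 3 ≤ Fintype.card I
  lt : Fintype.card I + 1 < Fintype.card J
  ne : j₁ ≠ j₀
  two : 2 ≤ n
  add : ∀ α β, τ (α + β) = τ α + τ β
  zsmul : ∀ (m : ℤ) α, τ (m • α) = m • τ α
  inner : ∀ α β, Adm α → Adm β → classInner (τ α) (τ β) = classInner α β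
  gc : ∀ α, Adm α → IsGeneralizedCharacter G (τ α)
  inner_one : ∀ α, Adm α → classInner (τ α) (η i₀ j₀) = classInner α (1 : L → ℂ)
  eta_gc : ∀ i j, IsGeneralizedCharacter G (η i j)
  eta : ∀ i j i' j', classInner (η i j) (η i' j') = if i = i' ∧ j = j' then 1 else 0
  adm₀ : Adm (μ₀ - ζ)
  admα : Adm (μ - 1 - (n : ℤ) • ζ)
  admT : ∀ φ ∈ T, Adm (φ - (d φ : ℤ) • ζ)
  rect₀ : ∀ i j, classInner (τ (μ₀ - ζ)) (η i j) + classInner (τ (μ₀ - ζ)) (η i₀ j₀) =
    classInner (τ (μ₀ - ζ)) (η i j₀) + classInner (τ (μ₀ - ζ)) (η i₀ j)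
  rectT : ∀ φ ∈ T, ∀ i j, classInner (τ (φ - (d φ : ℤ) • ζ)) (η i j) +
      classInner (τ (φ - (d φ : ℤ) • ζ)) (η i₀ j₀) =
    classInner (τ (φ - (d φ : ℤ) • ζ)) (η i j₀) + classInner (τ (φ - (d φ : ℤ) • ζ)) (η i₀ j)
  rectα : ∀ i j, classInner (τ (μ - 1 - (n : ℤ) • ζ) - (η i₀ j₁ - η i₀ j₀)) (η i j) +
      classInner (τ (μ - 1 - (n : ℤ) • ζ) - (η i₀ j₁ - η i₀ j₀)) (η i₀ j₀) =
    classInner (τ (μ - 1 - (n : ℤ) • ζ) - (η i₀ j₁ - η i₀ j₀)) (η i j₀) +
      classInner (τ (μ - 1 - (n : ℤ) • ζ) - (η i₀ j₁ - η i₀ j₀)) (η i₀ j)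
  gal₀ : ∀ i i', i ≠ i₀ → i' ≠ i₀ →
    classInner (τ (μ₀ - ζ)) (η i j₀) = classInner (τ (μ₀ - ζ)) (η i' j₀)
  galT : ∀ φ ∈ T, ∀ i i', i ≠ i₀ → i' ≠ i₀ →
    classInner (τ (φ - (d φ : ℤ) • ζ)) (η i j₀) = classInner (τ (φ - (d φ : ℤ) • ζ)) (η i' j₀)
  galα : ∀ i i', i ≠ i₀ → i' ≠ i₀ → classInner (τ (μ - 1 - (n : ℤ) • ζ)) (η i j₀) =
    classInner (τ (μ - 1 - (n : ℤ) • ζ)) (η i' j₀)
  one_one : classInner (1 : L → ℂ) 1 = 1
  μ₀_μ₀ : classInner μ₀ μ₀ = (Fintype.card I : ℂ)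
  μ₀_one : classInner μ₀ (1 : L → ℂ) = 1
  μ_μ : classInner μ μ = 1
  μ_one : classInner μ (1 : L → ℂ) = 0
  μ_μ₀ : classInner μ μ₀ = 0
  ζ_mem : ζ ∈ T₁
  T₁_sub : T₁ ⊆ T
  T₁_card : n ≤ T₁.card
  T₁_deg : ∀ φ ∈ T₁, d φ = 1 ∧ classInner φ φ = 1 ∧ classInner φ μ = 0
  T_one : ∀ φ ∈ T, classInner φ (1 : L → ℂ) = 0
  T_μ₀ : ∀ φ ∈ T, classInner φ μ₀ = 0
  T_μ : ∀ φ ∈ T, classInner φ μ = 0 ∨ classInner φ μ = 1
  T_orth : ∀ φ ∈ T, ∀ ψ ∈ T, φ ≠ ψ → classInner φ ψ = 0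
  T_norm : ∀ φ ∈ T, ∃ N : ℤ, 1 ≤ N ∧ N ≤ Fintype.card I ∧ classInner φ φ = (N : ℂ)
  T_deg : ∀ φ ∈ T, d φ ≤ n * Fintype.card I + 1

namespace Core

variable {I J : Type*} [Fintype I] [Fintype J] [DecidableEq I] [DecidableEq J]
  {τ : (L → ℂ) → (G → ℂ)} {Adm : (L → ℂ) → Prop} {η : I → J → G → ℂ} {i₀ : I} {j₀ j₁ : J} {n : ℕ}
  {μ₀ ζ μ : L → ℂ} {T T₁ : Finset (L → ℂ)} {d : (L → ℂ) → ℕ}

variable (h : Core τ Adm η i₀ j₀ j₁ n μ₀ ζ μ T T₁ d)
include h

theorem ζT : ζ ∈ T := h.T₁_sub h.ζ_mem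

theorem ζd : d ζ = 1 := (h.T₁_deg ζ h.ζ_mem).1

theorem ζζ : classInner ζ ζ = 1 := (h.T₁_deg ζ h.ζ_mem).2.1

theorem ζ_μ₀ : classInner ζ μ₀ = 0 := h.T_μ₀ ζ h.ζT

theorem tau_zero : τ 0 = 0 := by
  have := h.zsmul 0 0
  simpa using this

theorem exists_coeff {β : L → ℂ} (hβ : Adm β) :
    ∃ c : I → J → ℤ, ∀ i j, classInner (τ β) (η i j) = c i j := by
  choose c hc using fun i j => classInner_gc_int (h.gc β hβ) (h.eta_gc i j)
  exact ⟨c, hc⟩

/-- The squares of a grid obeying the rectangle rule. -/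
theorem grid_sum {c : I → J → ℤ} {x : ℤ} {y : J → ℤ} (h0 : ∀ i, i ≠ i₀ → ∀ j, c i j = x + y j) :
    ∑ p : I × J, c p.1 p.2 ^ 2 =
      ∑ j, (c i₀ j ^ 2 + ((Fintype.card I : ℤ) - 1) * (x + y j) ^ 2) := by
  rw [Fintype.sum_prod_type, Finset.sum_comm]
  refine Finset.sum_congr rfl fun j _ => ?_
  rw [← Finset.add_sum_erase _ _ (Finset.mem_univ i₀),
    Finset.sum_congr rfl (g := fun _ => (x + y j) ^ 2)
      (fun i hi => by rw [h0 i (Finset.ne_of_mem_erase hi) j]),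
    Finset.sum_const, Finset.card_erase_of_mem (Finset.mem_univ i₀), Finset.card_univ, nsmul_eq_mul,
    Nat.cast_sub (by have := h.three; omega), Nat.cast_one]

theorem eta_orth (p p' : I × J) :
    classInner (η p.1 p.2) (η p'.1 p'.2) = if p = p' then 1 else 0 := by
  rw [h.eta]; simp [Prod.ext_iff]

theorem exists_i₁ : ∃ i₁, i₁ ≠ i₀ := by
  have := h.three
  exact Fintype.exists_ne_of_one_lt_card (by omega) i₀

theorem norm₀ : classInner (τ (μ₀ - ζ)) (τ (μ₀ - ζ)) = (((Fintype.card I : ℤ) + 1 : ℤ) : ℂ) := by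
  rw [h.inner _ _ h.adm₀ h.adm₀]
  simp only [classInner_sub_left, classInner_sub_right, h.μ₀_μ₀, h.ζζ, h.ζ_μ₀,
    classInner_symm_zero h.ζ_μ₀]
  push_cast; ring

theorem coeff₀ (i : I) (j : J) :
    classInner (τ (μ₀ - ζ)) (η i j) = if j = j₀ then 1 else 0 := by
  obtain ⟨c, hc⟩ := h.exists_coeff h.adm₀
  obtain ⟨i₁, hi₁⟩ := h.exists_i₁
  have h00 : c i₀ j₀ = 1 := by
    have := h.inner_one _ h.adm₀
    rw [hc, classInner_sub_left, h.μ₀_one, h.T_one ζ h.ζT, sub_zero] at this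
    exact_mod_cast this
  have hrel : ∀ i, i ≠ i₀ → ∀ j, c i j = c i₁ j₀ + (c i₀ j - 1) := by
    intro i hi j
    have h1 := h.rect₀ i j
    have h2 := h.gal₀ i i₁ hi hi₁
    rw [hc, hc] at h2
    rw [hc, hc, hc, hc] at h1
    have h1' : c i j + c i₀ j₀ = c i j₀ + c i₀ j := by exact_mod_cast h1
    have h2' : c i j₀ = c i₁ j₀ := by exact_mod_cast h2
    linarith
  have hb := bessel_int (fun p : I × J => η p.1 p.2) h.eta_orth
    (c := fun p => c p.1 p.2) (fun p => hc _ _) h.norm₀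
  rw [h.grid_sum hrel, ← Finset.add_sum_erase _ _ (Finset.mem_univ j₀), h00] at hb
  set q : ℤ := (Fintype.card I : ℤ) with hq
  set x := c i₁ j₀ with hx
  have hq3 : 3 ≤ q := by rw [hq]; exact_mod_cast h.three
  have hnn : ∀ j, 0 ≤ c i₀ j ^ 2 + (q - 1) * (x + (c i₀ j - 1)) ^ 2 := fun j => by
    have : (0:ℤ) ≤ q - 1 := by linarith
    positivity
  have hx1 : x = 1 := by
    by_contra hne
    have hone : ∀ j ∈ Finset.univ.erase j₀, (1 : ℤ) ≤ c i₀ j ^ 2 + (q - 1) * (x + (c i₀ j - 1)) ^ 2 := by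
      intro j _
      by_cases hj : c i₀ j = 0
      · rw [hj]
        have : 0 < (x + (0 - 1)) ^ 2 := by
          have : x + (0 - 1) ≠ 0 := fun e => hne (by linarith)
          positivity
        nlinarith
      · have : 0 < c i₀ j ^ 2 := by positivity
        have : 0 ≤ (q - 1) * (x + (c i₀ j - 1)) ^ 2 := mul_nonneg (by linarith) (sq_nonneg _)
        linarith
    have hsum := Finset.sum_le_sum hone
    rw [Finset.sum_const, Finset.card_erase_of_mem (Finset.mem_univ _), Finset.card_univ,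
      nsmul_eq_mul, mul_one] at hsum
    have hp : q + 1 ≤ ((Fintype.card J - 1 : ℕ) : ℤ) := by
      have := h.lt
      rw [hq]; omega
    nlinarith [mul_nonneg (by linarith : (0:ℤ) ≤ q - 1) (sq_nonneg (x + (1 - 1)))]
  have hy : ∀ j ∈ Finset.univ.erase j₀, c i₀ j = 0 := by
    intro j hj
    by_contra hne
    have h1 := Finset.single_le_sum (fun j _ => hnn j) hj
    have h3 : 0 < c i₀ j ^ 2 := by positivity
    rw [hx1] at hb h1
    nlinarith
  rw [hc]
  by_cases hj : j = j₀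
  · subst hj
    rw [if_pos rfl]
    by_cases hi : i = i₀
    · subst hi; rw [h00]; simp
    · rw [hrel i hi, h00, hx1]; simp
  · rw [if_neg hj]
    have h0 := hy j (Finset.mem_erase.2 ⟨hj, Finset.mem_univ _⟩)
    by_cases hi : i = i₀
    · subst hi; rw [h0]; simp
    · rw [hrel i hi, h0, hx1]; simp

omit h in
/-- The signed character `τ₁ ζ`. -/
noncomputable def e (τ : (L → ℂ) → (G → ℂ)) (η : I → J → G → ℂ) (j₀ : J) (μ₀ ζ : L → ℂ) : G → ℂ :=
  ∑ i, η i j₀ - τ (μ₀ - ζ)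

theorem e_gc : IsGeneralizedCharacter G (e τ η j₀ μ₀ ζ) :=
  isGC_sub (isGC_sum _ fun i _ => h.eta_gc i j₀) (h.gc _ h.adm₀)

theorem e_eta (i : I) (j : J) : classInner (e τ η j₀ μ₀ ζ) (η i j) = 0 := by
  rw [e, classInner_sub_left, classInner_sum_left, h.coeff₀, Finset.sum_eq_single i]
  · rw [h.eta]; by_cases hj : j = j₀ <;> simp [hj, Ne.symm]
  · intro i' _ hi'; rw [h.eta, if_neg fun hh => hi' hh.1]
  · exact fun hh => absurd (Finset.mem_univ i) hh

theorem eta_e (i : I) (j : J) : classInner (η i j) (e τ η j₀ μ₀ ζ) = 0 :=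
  classInner_symm_zero (h.e_eta i j)

theorem e_e : classInner (e τ η j₀ μ₀ ζ) (e τ η j₀ μ₀ ζ) = 1 := by
  have h1 : classInner (∑ i, η i j₀) (∑ i, η i j₀) = ((Fintype.card I : ℤ) : ℂ) := by
    rw [classInner_sum_left]
    simp [classInner_sum_right, h.eta]
  have h2 : classInner (τ (μ₀ - ζ)) (∑ i, η i j₀) = ((Fintype.card I : ℤ) : ℂ) := by
    rw [classInner_sum_right]
    simp [h.coeff₀]
  rw [e, classInner_sub_left, classInner_sub_right, classInner_sub_right, h1, h2,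
    classInner_symm_of_int h2, h.norm₀]
  push_cast; ring

theorem tau_e {β : L → ℂ} (hβ : Adm β) :
    classInner (τ β) (e τ η j₀ μ₀ ζ) =
      ∑ i, classInner (τ β) (η i j₀) - classInner β (μ₀ - ζ) := by
  rw [e, classInner_sub_right, classInner_sum_right, h.inner _ _ hβ h.adm₀]

theorem admT₁ {φ : L → ℂ} (hφ : φ ∈ T₁) : Adm (φ - ζ) := by
  have := h.admT φ (h.T₁_sub hφ)
  rwa [(h.T₁_deg φ hφ).1, Nat.cast_one, one_smul] at this

theorem T₁_inner {φ ψ : L → ℂ} (hφ : φ ∈ T₁) (hψ : ψ ∈ T₁) :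
    classInner φ ψ = if φ = ψ then 1 else 0 := by
  split_ifs with he
  · subst he; exact (h.T₁_deg φ hφ).2.1
  · exact h.T_orth φ (h.T₁_sub hφ) ψ (h.T₁_sub hψ) he

theorem coeff₁ {φ : L → ℂ} (hφ : φ ∈ T₁) (i : I) (j : J) :
    classInner (τ (φ - ζ)) (η i j) = 0 := by
  by_cases he : φ = ζ
  · subst he; rw [sub_self, h.tau_zero, classInner_zero_left]
  obtain ⟨c, hc⟩ := h.exists_coeff (h.admT₁ hφ)
  obtain ⟨i₁, hi₁⟩ := h.exists_i₁
  have hd : φ - ζ = φ - (d φ : ℤ) • ζ := by rw [(h.T₁_deg φ hφ).1, Nat.cast_one, one_smul]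
  have h00 : c i₀ j₀ = 0 := by
    have := h.inner_one _ (h.admT₁ hφ)
    rw [hc, classInner_sub_left, h.T_one φ (h.T₁_sub hφ), h.T_one ζ h.ζT, sub_zero] at this
    exact_mod_cast this
  have hrel : ∀ i, i ≠ i₀ → ∀ j, c i j = c i₁ j₀ + c i₀ j := by
    intro i hi j
    have h1 := h.rectT φ (h.T₁_sub hφ) i j
    have h2 := h.galT φ (h.T₁_sub hφ) i i₁ hi hi₁
    rw [← hd] at h1 h2
    rw [hc, hc] at h2
    rw [hc, hc, hc, hc] at h1
    have h1' : c i j + c i₀ j₀ = c i j₀ + c i₀ j := by exact_mod_cast h1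
    have h2' : c i j₀ = c i₁ j₀ := by exact_mod_cast h2
    linarith
  have hN : classInner (τ (φ - ζ)) (τ (φ - ζ)) = ((2 : ℤ) : ℂ) := by
    rw [h.inner _ _ (h.admT₁ hφ) (h.admT₁ hφ)]
    simp only [classInner_sub_left, classInner_sub_right, h.T₁_inner hφ hφ, h.ζζ,
      h.T₁_inner hφ h.ζ_mem, h.T₁_inner h.ζ_mem hφ, if_pos rfl, if_neg he, if_neg (Ne.symm he)]
    norm_num
  have hb := bessel_int (fun p : I × J => η p.1 p.2) h.eta_orth
    (c := fun p => c p.1 p.2) (fun p => hc _ _) hN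
  rw [h.grid_sum hrel, ← Finset.add_sum_erase _ _ (Finset.mem_univ j₀), h00, add_zero] at hb
  set q : ℤ := (Fintype.card I : ℤ) with hq
  set x := c i₁ j₀ with hx
  have hq3 : 3 ≤ q := by rw [hq]; exact_mod_cast h.three
  have hnn : ∀ j, 0 ≤ c i₀ j ^ 2 + (q - 1) * (x + c i₀ j) ^ 2 := fun j => by
    have : (0:ℤ) ≤ q - 1 := by linarith
    positivity
  have hx0 : x = 0 := by
    by_contra hne
    have hx2 : 0 < x ^ 2 := by positivity
    obtain ⟨j, hj⟩ := Fintype.exists_ne_of_one_lt_card (by have := h.lt; omega) j₀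
    have h1 := Finset.single_le_sum (fun j _ => hnn j)
      (Finset.mem_erase.2 ⟨hj, Finset.mem_univ j⟩)
    have h2 : 0 < c i₀ j ^ 2 + (q - 1) * (x + c i₀ j) ^ 2 := by
      by_cases hcj : c i₀ j = 0
      · rw [hcj, add_zero]; nlinarith
      · have : 0 < c i₀ j ^ 2 := by positivity
        have : 0 ≤ (q - 1) * (x + c i₀ j) ^ 2 := mul_nonneg (by linarith) (sq_nonneg _)
        linarith
    nlinarith
  have hy : ∀ j, c i₀ j = 0 := by
    intro j
    by_cases hj : j = j₀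
    · rw [hj, h00]
    by_contra hne
    have h1 := Finset.single_le_sum (fun j _ => hnn j)
      (Finset.mem_erase.2 ⟨hj, Finset.mem_univ j⟩)
    have h3 : 0 < c i₀ j ^ 2 := by positivity
    rw [hx0] at hb h1
    nlinarith
  rw [hc]
  by_cases hi : i = i₀
  · subst hi; rw [hy]; simp
  · rw [hrel i hi, hy, hx0]; simp

theorem coeff₁_e {φ : L → ℂ} (hφ : φ ∈ T₁) :
    classInner (τ (φ - ζ)) (e τ η j₀ μ₀ ζ) = (((if φ = ζ then 1 else 0) - 1 : ℤ) : ℂ) := by
  rw [h.tau_e (h.admT₁ hφ), Finset.sum_eq_zero fun i _ => h.coeff₁ hφ i j₀]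
  simp only [classInner_sub_left, classInner_sub_right, h.T_μ₀ φ (h.T₁_sub hφ), h.ζ_μ₀, h.ζζ,
    h.T₁_inner hφ h.ζ_mem]
  split_ifs <;> simp

theorem alpha_coeff : (∀ i j, classInner (τ (μ - 1 - (n : ℤ) • ζ)) (η i j) =
      ((if i = i₀ ∧ j = j₁ then 1 else 0) - (if i = i₀ ∧ j = j₀ then 1 else 0))) ∧
    classInner (τ (μ - 1 - (n : ℤ) • ζ)) (e τ η j₀ μ₀ ζ) = ((-n : ℤ) : ℂ) := by
  set a := μ - 1 - (n : ℤ) • ζ with ha
  have hadm : Adm a := h.admα
  obtain ⟨c, hc⟩ : ∃ c : I → J → ℤ, ∀ i j, classInner (τ a) (η i j) = c i j :=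
    h.exists_coeff hadm
  obtain ⟨i₁, hi₁⟩ := h.exists_i₁
  have hμζ : classInner μ ζ = 0 := classInner_symm_zero (h.T₁_deg ζ h.ζ_mem).2.2
  have hζμ : classInner ζ μ = 0 := (h.T₁_deg ζ h.ζ_mem).2.2
  have hζ1 : classInner ζ (1 : L → ℂ) = 0 := h.T_one ζ h.ζT
  have h00 : c i₀ j₀ = -1 := by
    have := h.inner_one _ hadm
    rw [hc] at this
    simp only [ha, classInner_sub_left, classInner_zsmul_left, h.μ_one, h.one_one, hζ1] at this
    have h' : (c i₀ j₀ : ℂ) = ((-1 : ℤ) : ℂ) := by push_cast; linear_combination this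
    exact_mod_cast h'
  let y : J → ℤ := fun j => c i₀ j - (if j = j₁ then 1 else 0) + (if j = j₀ then 1 else 0)
  have hrel : ∀ i, i ≠ i₀ → ∀ j, c i j = c i₁ j₀ + y j := by
    intro i hi j
    have h1 := h.rectα i j
    have h2 := h.galα i i₁ hi hi₁
    rw [hc, hc] at h2
    simp only [classInner_sub_left, ← ha, hc, h.eta, Ne.symm hi, h.ne, Ne.symm h.ne, false_and,
      and_false, if_false, true_and, and_true, if_true, sub_zero, zero_sub] at h1
    have h2' : c i j₀ = c i₁ j₀ := by exact_mod_cast h2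
    have h1' : c i j + (c i₀ j₀ + 1) =
        c i j₀ + (c i₀ j - ((if j₁ = j then 1 else 0) - (if j₀ = j then 1 else 0))) := by
      have e1 : ((c i j + (c i₀ j₀ + 1) : ℤ) : ℂ) = ((c i j₀ + (c i₀ j -
          ((if j₁ = j then 1 else 0) - (if j₀ = j then 1 else 0))) : ℤ) : ℂ) := by
        push_cast
        linear_combination h1
      exact_mod_cast e1
    simp only [eq_comm (a := j₁), eq_comm (a := j₀)] at h1'
    simp only [y]
    linarith
  have hb0 : classInner (τ a) (e τ η j₀ μ₀ ζ) =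
      ((((Fintype.card I : ℤ) - 1) * c i₁ j₀ - n : ℤ) : ℂ) := by
    rw [h.tau_e hadm, ← Finset.add_sum_erase _ _ (Finset.mem_univ i₀),
      Finset.sum_congr rfl (g := fun _ => ((c i₁ j₀ : ℤ) : ℂ)) (fun i hi => by
        have h2 := h.galα i i₁ (Finset.ne_of_mem_erase hi) hi₁
        rwa [hc i₁ j₀] at h2),
      Finset.sum_const, Finset.card_erase_of_mem (Finset.mem_univ i₀), Finset.card_univ, nsmul_eq_mul,
      Nat.cast_sub (by have := h.three; omega), hc i₀ j₀, h00]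
    simp only [ha, classInner_sub_left, classInner_sub_right, classInner_zsmul_left, h.μ_μ₀, hμζ,
      h.ζ_μ₀, h.ζζ, classInner_symm_zero hζ1,
      classInner_symm_of_int (n := 1) (by simpa using h.μ₀_one)]
    push_cast; ring
  set q : ℤ := (Fintype.card I : ℤ) with hq
  set x := c i₁ j₀ with hx
  set b := (q - 1) * x with hb
  -- the orthonormal family: the grid and the images of `T₁`
  let X : T₁ → G → ℂ := fun φ => τ (φ.1 - ζ) + e τ η j₀ μ₀ ζ
  let vv : (I × J) ⊕ T₁ → G → ℂ := Sum.elim (fun p => η p.1 p.2) X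
  have hXη : ∀ (φ : T₁) i j, classInner (X φ) (η i j) = 0 := fun φ i j => by
    rw [classInner_add_left, h.coeff₁ φ.2, h.e_eta, add_zero]
  have hvv : ∀ s t, classInner (vv s) (vv t) = if s = t then 1 else 0 := by
    rintro (p | φ) (p' | ψ)
    · simpa [vv] using h.eta_orth p p'
    · simpa [vv] using classInner_symm_zero (hXη ψ p.1 p.2)
    · simpa [vv] using hXη φ p'.1 p'.2
    · simp only [vv, Sum.elim_inr, X, classInner_add_left, classInner_add_right, h.e_e,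
        h.inner _ _ (h.admT₁ φ.2) (h.admT₁ ψ.2), h.coeff₁_e φ.2,
        classInner_symm_of_int (h.coeff₁_e ψ.2), classInner_sub_left, classInner_sub_right,
        h.T₁_inner φ.2 ψ.2, h.T₁_inner φ.2 h.ζ_mem, h.T₁_inner h.ζ_mem ψ.2, h.ζζ,
        Sum.inr.injEq, Subtype.ext_iff, eq_comm (a := ζ)]
      split_ifs <;> norm_num
  let cc : (I × J) ⊕ T₁ → ℤ := Sum.elim (fun p => c p.1 p.2)
    (fun φ => if φ.1 = ζ then b - n else b)
  have hcc : ∀ s, classInner (τ a) (vv s) = cc s := by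
    rintro (p | φ)
    · exact hc _ _
    · simp only [vv, cc, Sum.elim_inr, X, classInner_add_right, h.inner _ _ hadm (h.admT₁ φ.2), hb0]
      simp only [ha, classInner_sub_left, classInner_sub_right, classInner_zsmul_left, hμζ,
        h.ζζ, classInner_symm_zero (h.T₁_deg φ.1 φ.2).2.2, classInner_symm_zero hζ1,
        classInner_symm_zero (h.T_one φ.1 (h.T₁_sub φ.2)), h.T₁_inner h.ζ_mem φ.2,
        eq_comm (a := ζ)]
      split_ifs <;> push_cast <;> simp only [hb] <;> push_cast <;> ring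
  have hN : classInner (τ a) (τ a) = (((n : ℤ) ^ 2 + 2 : ℤ) : ℂ) := by
    rw [h.inner _ _ hadm hadm]
    simp only [ha, classInner_sub_left, classInner_sub_right, classInner_zsmul_left,
      classInner_zsmul_right, h.μ_μ, h.μ_one, classInner_symm_zero h.μ_one, h.one_one, hζ1,
      classInner_symm_zero hζ1, hμζ, hζμ, h.ζζ]
    push_cast; ring
  have hbs := bessel_int vv hvv hcc hN
  rw [Fintype.sum_sum_type] at hbs
  simp only [cc, Sum.elim_inl, Sum.elim_inr] at hbs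
  rw [h.grid_sum hrel] at hbs
  have hT1 : ∑ φ : T₁, (if φ.1 = ζ then b - (n : ℤ) else b) ^ 2 =
      (b - n) ^ 2 + ((T₁.card : ℤ) - 1) * b ^ 2 := by
    rw [Finset.sum_coe_sort T₁ (fun φ => (if φ = ζ then b - (n : ℤ) else b) ^ 2),
      ← Finset.add_sum_erase _ _ h.ζ_mem, if_pos rfl,
      Finset.sum_congr rfl (g := fun _ => b ^ 2) (fun φ hφ => by rw [if_neg (Finset.ne_of_mem_erase hφ)]),
      Finset.sum_const, Finset.card_erase_of_mem h.ζ_mem, nsmul_eq_mul,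
      Nat.cast_sub (Finset.card_pos.2 ⟨ζ, h.ζ_mem⟩ : 1 ≤ T₁.card), Nat.cast_one]
  rw [hT1] at hbs
  have hq3 : 3 ≤ q := by rw [hq]; exact_mod_cast h.three
  have hcard : (n : ℤ) ≤ T₁.card := by exact_mod_cast h.T₁_card
  have hbb : 0 ≤ b ^ 2 - 2 * b := by
    rcases lt_trichotomy x 0 with hx0 | hx0 | hx0
    · have : b ≤ 0 := mul_nonpos_of_nonneg_of_nonpos (by linarith) hx0.le
      nlinarith
    · rw [hb, hx0]; simp
    · have : 2 ≤ b := by rw [hb]; nlinarith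
      nlinarith
  have hnn : ∀ j, 0 ≤ c i₀ j ^ 2 + (q - 1) * (x + y j) ^ 2 := fun j => by
    have : (0:ℤ) ≤ q - 1 := by linarith
    positivity
  have hS : ∑ j, (c i₀ j ^ 2 + (q - 1) * (x + y j) ^ 2) ≤ 2 := by
    have h1 : (n : ℤ) * b ^ 2 ≤ (T₁.card : ℤ) * b ^ 2 := mul_le_mul_of_nonneg_right hcard (sq_nonneg b)
    have h2 : 0 ≤ (n : ℤ) * (b ^ 2 - 2 * b) := mul_nonneg (Int.natCast_nonneg n) hbb
    nlinarith
  rw [← Finset.add_sum_erase _ _ (Finset.mem_univ j₀),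
    ← Finset.add_sum_erase _ _ (Finset.mem_erase.2 ⟨h.ne, Finset.mem_univ j₁⟩)] at hS
  have hyj₀ : y j₀ = 0 := by simp only [y, h00, if_true, if_neg (Ne.symm h.ne)]; ring
  have hyj₁ : c i₀ j₁ = y j₁ + 1 := by simp only [y, if_true, if_neg h.ne]; ring
  have hyj : ∀ j ∈ (Finset.univ.erase j₀).erase j₁, c i₀ j = y j := fun j hj => by
    simp only [Finset.mem_erase] at hj
    simp only [y, if_neg hj.1, if_neg hj.2.1]; ring
  have hrest : 0 ≤ ∑ j ∈ (Finset.univ.erase j₀).erase j₁, (c i₀ j ^ 2 + (q - 1) * (x + y j) ^ 2) :=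
    Finset.sum_nonneg fun j _ => hnn j
  rw [h00, hyj₀, hyj₁] at hS
  have hx0 : x = 0 := by
    by_contra hne
    have : 0 < x ^ 2 := by positivity
    nlinarith [sq_nonneg (y j₁ + 1), mul_nonneg (by linarith : (0:ℤ) ≤ q - 1) (sq_nonneg (x + y j₁))]
  rw [hx0] at hS hrest
  have hy1 : y j₁ = 0 := by
    by_contra hne
    have : 0 < y j₁ ^ 2 := by positivity
    nlinarith [sq_nonneg (y j₁ + 1)]
  rw [hy1] at hS
  have hy : ∀ j, y j = 0 := by
    intro j
    by_cases hj : j = j₀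
    · rw [hj, hyj₀]
    by_cases hj' : j = j₁
    · rw [hj', hy1]
    by_contra hne
    have hm : j ∈ (Finset.univ.erase j₀).erase j₁ := by simp [hj, hj']
    have h1 := Finset.single_le_sum (fun j _ => hnn j) hm
    rw [hyj j hm, hx0] at h1
    have : 0 < y j ^ 2 := by positivity
    nlinarith
  refine ⟨fun i j => ?_, by rw [hb0, hb, hx0]; simp⟩
  rw [hc]
  by_cases hi : i = i₀
  · subst hi
    have := hy j
    simp only [y] at this
    rw [show c i j = (if j = j₁ then 1 else 0) - (if j = j₀ then 1 else 0) by linarith]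
    simp
  · rw [hrel i hi, hy, hx0]; simp [hi]

theorem tau_alpha : τ (μ - 1 - (n : ℤ) • ζ) =
    η i₀ j₁ - η i₀ j₀ - (n : ℤ) • e τ η j₀ μ₀ ζ := by
  obtain ⟨hA, hAe⟩ := h.alpha_coeff
  set a := μ - 1 - (n : ℤ) • ζ with ha
  have hadm : Adm a := h.admα
  have hμζ : classInner μ ζ = 0 := classInner_symm_zero (h.T₁_deg ζ h.ζ_mem).2.2
  have hζ1 : classInner ζ (1 : L → ℂ) = 0 := h.T_one ζ h.ζT
  rw [← sub_eq_zero, ← classInner_self_eq_zero]
  have h1 : classInner (η i₀ j₁) (τ a) = ((1 : ℤ) : ℂ) :=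
    classInner_symm_of_int (by rw [hA]; simp [h.ne])
  have h2 : classInner (η i₀ j₀) (τ a) = ((-1 : ℤ) : ℂ) :=
    classInner_symm_of_int (by rw [hA]; simp [Ne.symm h.ne])
  have hN : classInner (τ a) (τ a) = (n : ℂ) ^ 2 + 2 := by
    rw [h.inner _ _ hadm hadm]
    simp only [ha, classInner_sub_left, classInner_sub_right, classInner_zsmul_left,
      classInner_zsmul_right, h.μ_μ, h.μ_one, classInner_symm_zero h.μ_one, h.one_one, hζ1,
      classInner_symm_zero hζ1, hμζ, classInner_symm_zero hμζ, h.ζζ]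
    push_cast; ring
  simp only [classInner_sub_left, classInner_sub_right, classInner_zsmul_left,
    classInner_zsmul_right, hA, hAe, h1, h2, classInner_symm_of_int hAe, h.e_e, h.eta, h.eta_e,
    h.e_eta, hN, h.ne, Ne.symm h.ne, if_true, if_false, and_false, and_true, and_self]
  push_cast; ring

/-- Every `τ (φ - d φ ζ)` is orthogonal to `∑ η i j₀`, whence its inner product with `e`. -/
theorem coeff_e {φ : L → ℂ} (hφ : φ ∈ T) :
    classInner (τ (φ - (d φ : ℤ) • ζ)) (e τ η j₀ μ₀ ζ) = classInner φ ζ - (d φ : ℂ) := by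
  by_cases he : φ = ζ
  · subst he
    simp [h.ζd, h.tau_zero, h.ζζ]
  set β := φ - (d φ : ℤ) • ζ with hβ
  have hadm : Adm β := h.admT φ hφ
  obtain ⟨c, hc⟩ : ∃ c : I → J → ℤ, ∀ i j, classInner (τ β) (η i j) = c i j := h.exists_coeff hadm
  obtain ⟨i₁, hi₁⟩ := h.exists_i₁
  have hφζ : classInner φ ζ = 0 := h.T_orth φ hφ ζ h.ζT he
  have hζ1 : classInner ζ (1 : L → ℂ) = 0 := h.T_one ζ h.ζT
  have h00 : c i₀ j₀ = 0 := by
    have := h.inner_one _ hadm
    rw [hc, hβ, classInner_sub_left, classInner_zsmul_left, h.T_one φ hφ, hζ1] at this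
    simpa using this
  set q : ℤ := (Fintype.card I : ℤ) with hq
  set x := c i₁ j₀ with hx
  have hsum : ∑ i, classInner (τ β) (η i j₀) = (((q - 1) * x : ℤ) : ℂ) := by
    rw [← Finset.add_sum_erase _ _ (Finset.mem_univ i₀),
      Finset.sum_congr rfl (g := fun _ => ((c i₁ j₀ : ℤ) : ℂ)) (fun i hi => by
        have h2 := h.galT φ hφ i i₁ (Finset.ne_of_mem_erase hi) hi₁
        rwa [hc i₁ j₀] at h2),
      Finset.sum_const, Finset.card_erase_of_mem (Finset.mem_univ i₀), Finset.card_univ, nsmul_eq_mul,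
      Nat.cast_sub (by have := h.three; omega), hc, h00, hq]
    push_cast; ring
  have he' : classInner (τ β) (e τ η j₀ μ₀ ζ) = (((q - 1) * x - d φ : ℤ) : ℂ) := by
    rw [h.tau_e hadm, hsum]
    simp only [hβ, classInner_sub_left, classInner_sub_right, classInner_zsmul_left, h.T_μ₀ φ hφ,
      hφζ, h.ζ_μ₀, h.ζζ]
    push_cast; ring
  suffices hx0 : x = 0 by
    rw [he', hx0, hφζ]; simp
  obtain ⟨ε, hε1, hε⟩ : ∃ ε : ℤ, (ε = 0 ∨ ε = 1) ∧ classInner φ μ = (ε : ℂ) := by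
    rcases h.T_μ φ hφ with h' | h'
    · exact ⟨0, Or.inl rfl, by simp [h']⟩
    · exact ⟨1, Or.inr rfl, by simp [h']⟩
  have hy : c i₀ j₁ = ε + n * ((q - 1) * x) := by
    have h1 := h.inner _ _ hadm h.admα
    rw [h.tau_alpha, classInner_sub_right, classInner_sub_right, classInner_zsmul_right, hc, hc,
      he', h00] at h1
    simp only [hβ, classInner_sub_left, classInner_sub_right, classInner_zsmul_left,
      classInner_zsmul_right, hε, (h.T₁_deg ζ h.ζ_mem).2.2, h.T_one φ hφ, hζ1, hφζ, h.ζζ] at h1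
    have : (c i₀ j₁ : ℂ) = ((ε + n * ((q - 1) * x) : ℤ) : ℂ) := by
      push_cast at h1 ⊢; linear_combination h1
    exact_mod_cast this
  have hrel : ∀ i, i ≠ i₀ → ∀ j, c i j = x + c i₀ j := by
    intro i hi j
    have h1 := h.rectT φ hφ i j
    have h2 := h.galT φ hφ i i₁ hi hi₁
    rw [hc, hc] at h2
    rw [hc, hc, hc, hc] at h1
    have h1' : c i j + c i₀ j₀ = c i j₀ + c i₀ j := by exact_mod_cast h1
    have h2' : c i j₀ = c i₁ j₀ := by exact_mod_cast h2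
    linarith
  obtain ⟨N, hN1, hNq, hN⟩ := h.T_norm φ hφ
  have hNN : classInner (τ β) (τ β) = ((N + (d φ : ℤ) ^ 2 : ℤ) : ℂ) := by
    rw [h.inner _ _ hadm hadm]
    simp only [hβ, classInner_sub_left, classInner_sub_right, classInner_zsmul_left,
      classInner_zsmul_right, hN, hφζ, classInner_symm_zero hφζ, h.ζζ]
    push_cast; ring
  let vv : (I × J) ⊕ Unit → G → ℂ := Sum.elim (fun p => η p.1 p.2) (fun _ => e τ η j₀ μ₀ ζ)
  have hvv : ∀ s t, classInner (vv s) (vv t) = if s = t then 1 else 0 := by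
    rintro (p | ⟨⟩) (p' | ⟨⟩)
    · simpa [vv] using h.eta_orth p p'
    · simpa [vv] using h.eta_e p.1 p.2
    · simpa [vv] using h.e_eta p'.1 p'.2
    · simpa [vv] using h.e_e
  have hbs := bessel_int vv hvv
    (c := Sum.elim (fun p => c p.1 p.2) (fun _ => (q - 1) * x - d φ))
    (by rintro (p | ⟨⟩); exacts [hc _ _, he']) hNN
  rw [Fintype.sum_sum_type] at hbs
  simp only [Sum.elim_inl, Sum.elim_inr, Finset.univ_unique, Finset.sum_singleton] at hbs
  rw [h.grid_sum hrel, ← Finset.add_sum_erase _ _ (Finset.mem_univ j₀)] at hbs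
  have hq3 : 3 ≤ q := by rw [hq]; exact_mod_cast h.three
  have hnn : ∀ j, 0 ≤ c i₀ j ^ 2 + (q - 1) * (x + c i₀ j) ^ 2 := fun j => by
    have : (0:ℤ) ≤ q - 1 := by linarith
    positivity
  have h1 := Finset.single_le_sum (fun j _ => hnn j)
    (Finset.mem_erase.2 ⟨h.ne, Finset.mem_univ j₁⟩)
  by_contra hne
  have hn : (2 : ℤ) ≤ n := by exact_mod_cast h.two
  have hd : (d φ : ℤ) ≤ n * q + 1 := by rw [hq]; exact_mod_cast h.T_deg φ hφ
  set t := |x| with ht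
  have ht1 : 1 ≤ t := Int.one_le_abs hne
  have hNq' : N ≤ q := by rw [hq]; exact hNq
  -- `|x + y| ≥ |x| n (q - 1)`
  have hxy : (n : ℤ) * (q - 1) * t ≤ |x + c i₀ j₁| := by
    have e : x + c i₀ j₁ = x * (1 + n * (q - 1)) + ε := by rw [hy]; ring
    have hpos : (0 : ℤ) ≤ 1 + n * (q - 1) := by nlinarith
    have htri : |x * (1 + n * (q - 1))| ≤ |x + c i₀ j₁| + |ε| := by
      calc |x * (1 + n * (q - 1))| = |(x + c i₀ j₁) - ε| := by rw [e]; ring_nf
        _ ≤ _ := abs_sub _ _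
    rw [abs_mul, abs_of_nonneg hpos] at htri
    have hεa : |ε| ≤ 1 := by rcases hε1 with rfl | rfl <;> simp
    rw [← ht] at htri
    nlinarith
  have hsq : ((n : ℤ) * (q - 1) * t) ^ 2 ≤ (x + c i₀ j₁) ^ 2 := by
    rw [← sq_abs (x + c i₀ j₁)]
    exact pow_le_pow_left₀
      (mul_nonneg (mul_nonneg (Int.natCast_nonneg n) (by linarith)) (by linarith)) hxy 2
  have hlin : (q - 1) * x * (d φ : ℤ) ≤ (q - 1) * t * (n * q + 1) := by
    calc (q - 1) * x * (d φ : ℤ) ≤ (q - 1) * t * (d φ : ℤ) := by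
          have : x ≤ t := le_abs_self x
          have : (0:ℤ) ≤ (d φ : ℤ) := Int.natCast_nonneg _
          nlinarith [mul_le_mul_of_nonneg_left (le_abs_self x) (by linarith : (0:ℤ) ≤ q - 1)]
      _ ≤ _ := mul_le_mul_of_nonneg_left hd (mul_nonneg (by linarith) (by linarith))
  have hkey : (q - 1) * ((n : ℤ) * (q - 1) * t) ^ 2 - 2 * ((q - 1) * t * (n * q + 1)) ≤ q := by
    have h2 := mul_le_mul_of_nonneg_left hsq (by linarith : (0:ℤ) ≤ q - 1)
    linarith [sq_nonneg ((q - 1) * x), sq_nonneg (c i₀ j₁), hnn j₀]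
  have hfac : (2 : ℤ) ≤ (n : ℤ) ^ 2 * (q - 1) ^ 2 * t - 2 * (n * q + 1) := by
    have h3 : (n : ℤ) * 2 * (q - 1) ^ 2 ≤ (n : ℤ) ^ 2 * (q - 1) ^ 2 * t := by
      calc (n : ℤ) * 2 * (q - 1) ^ 2 ≤ (n : ℤ) * n * (q - 1) ^ 2 :=
            mul_le_mul_of_nonneg_right (mul_le_mul_of_nonneg_left hn (Int.natCast_nonneg n)) (sq_nonneg _)
        _ = (n : ℤ) ^ 2 * (q - 1) ^ 2 * 1 := by ring
        _ ≤ _ := mul_le_mul_of_nonneg_left ht1 (by positivity)
    have h4 : 0 ≤ q * (q - 3) := mul_nonneg (by linarith) (by linarith)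
    have h5 : (n : ℤ) * q + n ≤ (n : ℤ) * (q - 1) ^ 2 := by
      rw [← mul_add_one]
      exact mul_le_mul_of_nonneg_left (by linarith) (Int.natCast_nonneg n)
    linarith
  have h6 : (q - 1) * 2 ≤ (q - 1) * t * ((n : ℤ) ^ 2 * (q - 1) ^ 2 * t - 2 * (n * q + 1)) := by
    calc (q - 1) * 2 ≤ (q - 1) * t * 2 :=
          mul_le_mul_of_nonneg_right (le_mul_of_one_le_right (by linarith) ht1) (by norm_num)
      _ ≤ _ := mul_le_mul_of_nonneg_left hfac (mul_nonneg (by linarith) (by linarith))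
  have h7 : (q - 1) * ((n : ℤ) * (q - 1) * t) ^ 2 - 2 * ((q - 1) * t * (n * q + 1)) =
      (q - 1) * t * ((n : ℤ) ^ 2 * (q - 1) ^ 2 * t - 2 * (n * q + 1)) := by ring
  linarith

/-- The set `T` is coherent. -/
theorem coherent (hdeg : ∀ φ ∈ T, φ 1 = ((Fintype.card I * d φ : ℕ) : ℂ))
    (htwo : ∃ φ ∈ T, φ ≠ ζ) : IsCoherent (↑T : Set (L → ℂ)) {1}ᶜ τ := by
  classical
  set ee := e τ η j₀ μ₀ ζ with hee
  have hne : ∀ φ ∈ T, φ ≠ 0 := by
    intro φ hφ h0
    obtain ⟨N, hN1, -, hN⟩ := h.T_norm φ hφ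
    rw [h0, classInner_zero_left] at hN
    have : N = 0 := by exact_mod_cast hN.symm
    omega
  refine ⟨?_, ?_⟩
  · obtain ⟨φ, hφ, hφζ⟩ := htwo
    refine ⟨φ - (d φ : ℤ) • ζ, mem_zspanOn_one.2 ⟨zspan_sub (subset_zspan hφ)
      (zspan_zsmul _ (subset_zspan (Finset.mem_coe.2 h.ζT))), by
        simp [hdeg φ hφ, hdeg ζ h.ζT, h.ζd]; ring⟩, fun h0 => ?_⟩
    have h1 := congrArg (fun f => classInner f φ) h0
    simp only [classInner_sub_left, classInner_zsmul_left, classInner_zero_left,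
      h.T_orth ζ h.ζT φ hφ (Ne.symm hφζ), mul_zero, sub_zero] at h1
    exact hne φ hφ (classInner_self_eq_zero.1 h1)
  obtain ⟨τ₁, hτ₁, hval⟩ := exists_extension (G := G) T hne h.T_orth
    (fun φ => τ (φ - (d φ : ℤ) • ζ) + (d φ : ℤ) • ee)
    (fun φ hφ => isGC_add (h.gc _ (h.admT φ hφ)) (isGC_zsmul h.e_gc _))
    (fun φ hφ ψ hψ => by
      have hi : ∀ χ ∈ T, classInner ζ χ = classInner χ ζ := fun χ hχ => by
        by_cases he : χ = ζ
        · rw [he]
        · rw [h.T_orth χ hχ ζ h.ζT he, h.T_orth ζ h.ζT χ hχ (Ne.symm he)]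
      have hr : ∀ χ ∈ T, classInner ee (τ (χ - (d χ : ℤ) • ζ)) = classInner χ ζ - (d χ : ℂ) := fun χ hχ => by
        by_cases he : χ = ζ
        · subst he; rw [← classInner_conj_symm, h.coeff_e hχ, h.ζζ]; simp
        · rw [← classInner_conj_symm, h.coeff_e hχ, h.T_orth χ hχ ζ h.ζT he]; simp
      have hc' : classInner (τ (φ - (d φ : ℤ) • ζ)) ee = classInner φ ζ - (d φ : ℂ) := h.coeff_e hφ
      have he' : classInner ee ee = 1 := h.e_e
      simp only [classInner_add_left, classInner_add_right, classInner_zsmul_left,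
        classInner_zsmul_right, h.inner _ _ (h.admT φ hφ) (h.admT ψ hψ), hc', hr ψ hψ, he', classInner_sub_left, classInner_sub_right, h.ζζ, hi ψ hψ]
      push_cast; ring)
  refine ⟨τ₁, hτ₁, fun α hα => ?_⟩
  obtain ⟨m, hm⟩ := exists_coeffs_of_mem_zspan hα.1
  have hzero : ∑ φ ∈ T, m φ * (d φ : ℤ) = 0 := by
    have h1 := (mem_zspanOn_one.1 hα).2
    rw [hm, Finset.sum_apply] at h1
    have h2 : (Fintype.card I : ℂ) * ((∑ φ ∈ T, m φ * (d φ : ℤ) : ℤ) : ℂ) = 0 := by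
      rw [← h1]
      push_cast
      rw [Finset.mul_sum]
      refine Finset.sum_congr rfl fun φ hφ => ?_
      rw [Pi.smul_apply, hdeg φ hφ, zsmul_eq_mul]
      push_cast; ring
    have h3 := h.three
    exact_mod_cast (mul_eq_zero.1 h2).resolve_left (Nat.cast_ne_zero.2 (by omega))
  have hα' : α = ∑ φ ∈ T, m φ • (φ - (d φ : ℤ) • ζ) := by
    rw [hm]
    simp only [smul_sub, smul_smul]
    rw [Finset.sum_sub_distrib, ← Finset.sum_smul, hzero, zero_smul, sub_zero]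
  rw [show τ₁ α = ∑ φ ∈ T, m φ • τ₁ φ by
    rw [hm, lin_sum hτ₁ T fun φ hφ => zspan_zsmul _ (subset_zspan hφ)]
    exact Finset.sum_congr rfl fun φ hφ => hτ₁.2.1 _ (subset_zspan hφ) _,
    Finset.sum_congr rfl fun φ hφ => by rw [hval φ hφ]]
  simp only [smul_add, smul_smul]
  rw [Finset.sum_add_distrib, ← Finset.sum_smul, hzero, zero_smul, add_zero, hα']
  have hadd : ∀ (s : Finset (L → ℂ)) (f : (L → ℂ) → L → ℂ),
      τ (∑ φ ∈ s, f φ) = ∑ φ ∈ s, τ (f φ) := by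
    intro s f
    induction s using Finset.induction_on with
    | empty => simp [h.tau_zero]
    | insert a s ha ih => rw [Finset.sum_insert ha, h.add, ih, Finset.sum_insert ha]
  rw [hadd]
  exact Finset.sum_congr rfl fun φ _ => (h.zsmul _ _).symm

end Core

end Cfsg.Agent.Peterfalvi
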