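import Cfsg.Agent.Lib.Peterfalvi.Sec11.Group
import Cfsg.Agent.S1519
import Cfsg.Agent.S1520
import Cfsg.Agent.Lib.Coherence.FrobKernel

/-!
# Peterfalvi (11.3)-(11.5) (owner: helper43)

* `four_sq_add_one_lt` : (11.1)
* `not_coherent_of_index` : (11.3), from (6.3) and (10.8)
* `derived_two_eq` : (11.5), `M'' = H C`
* `kernel_facts` : (11.6), (11.7)
-/

set_option autoImplicit false

namespace Cfsg.Agent.Peterfalvi

open scoped Pointwise commutatorElement
open Cfsg OddMax FixedFormula Cfsg.Agent.Coherence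

universe u

/-- (11.1) -/
theorem four_sq_add_one_lt {p q : ℕ} (hp : 3 ≤ p) (hq : 3 ≤ q) (hpo : Odd p) (hqo : Odd q) (hne : p ≠ q) :
    4 * q ^ 2 + 1 < p ^ q := by
  rcases eq_or_lt_of_le hq with rfl | hq3
  · have h5 : 5 ≤ p := by obtain ⟨k, rfl⟩ := hpo; omega
    have := Nat.pow_le_pow_left h5 3
    norm_num at this ⊢
    omega
  · have h5 : 5 ≤ q := by obtain ⟨k, rfl⟩ := hqo; omega
    refine lt_of_lt_of_le ?_ (Nat.pow_le_pow_left hp q)
    clear hne hpo hp hq hq3 hqo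
    induction q, h5 using Nat.le_induction with
    | base => norm_num
    | succ n hn ih => rw [pow_succ 3 n]; nlinarith

variable {G : Type u} [Group G] [Fintype G] {M W₁ U W₂ H₀ : Subgroup G}

theorem Hyp9.le_normalizer_derived (h : Hyp9 M W₁ U W₂) :
    M ≤ Subgroup.normalizer ((⁅⁅M, M⁆, ⁅M, M⁆⁆ : Subgroup G) : Set G) := by
  intro g hg
  refine Coprime.mem_normalizer_of_forall fun z hz => ?_
  have hM : MulAut.conj g • M = M := Solvable.conj_eq_self hg
  have e : MulAut.conj g • (⁅⁅M, M⁆, ⁅M, M⁆⁆ : Subgroup G) = ⁅⁅M, M⁆, ⁅M, M⁆⁆ := by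
    show (⁅⁅M, M⁆, ⁅M, M⁆⁆ : Subgroup G).map (MulAut.conj g).toMonoidHom = _
    rw [Subgroup.map_commutator, Subgroup.map_commutator]
    have hM' : M.map (MulAut.conj g).toMonoidHom = M := hM
    rw [hM']
  rw [← e]
  exact Coprime.conj_mem_conj.2 hz

/-- The index of `M'` in `M`. -/
theorem Hyp9.derivedIn_index (h : Hyp9 M W₁ U W₂) : (derivedIn M).index = Nat.card W₁ := by
  show ⁅M, M⁆.relIndex M = _
  exact OddMax.compl_relIndex_right h.data.W₁_compl

theorem Hyp9.solvable_derivedIn (hG : IsMinSimpleOddOrder G) (h : Hyp9 M W₁ U W₂) :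
    Group.IsSolvable (derivedIn M) := by
  haveI : Group.IsSolvable M := h.solvable (X := M) hG le_rfl
  infer_instance

variable (F9 : Sec9Facts G) (h : Hyp9 M W₁ U W₂) (hK : IsChiefKernel M U H₀) (hnII : ¬ IsOfTypeII M)
include F9 h hK hnII

theorem sup_stab_le_derived : fittingHallOf M ⊔ stabC M U H₀ ≤ ⁅M, M⁆ :=
  _root_.sup_le h.le_M.1 (inf_le_left.trans h.le_M.2.1)

theorem card_sup_stab :
    Nat.card ↥(fittingHallOf M ⊔ stabC M U H₀ : Subgroup G) =
      Nat.card (fittingHallOf M) * Nat.card ↥(stabC M U H₀) := by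
  refine Coprime.card_sup_of_coprime
    ((inf_le_left.trans h.le_M.2.2.2.2).trans (le_normalizer_fittingHallOf M)) ?_
  exact h.coprime_U.symm.coprime_dvd_right (Subgroup.card_dvd_of_le inf_le_left)

theorem sup_stab_index :
    (fittingHallOf M ⊔ stabC M U H₀).relIndex ⁅M, M⁆ = (stabC M U H₀).relIndex U := by
  refine Nat.eq_of_mul_eq_mul_left (Nat.mul_pos (Nat.card_pos (α := fittingHallOf M))
    (Nat.card_pos (α := ↥(stabC M U H₀)))) ?_
  rw [mul_assoc _ _ ((stabC M U H₀).relIndex U),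
    OddMax.card_mul_relIndex (show stabC M U H₀ ≤ U from inf_le_left), OddMax.compl_card h.data.U_compl,
    ← card_sup_stab F9 h hK hnII, OddMax.card_mul_relIndex (sup_stab_le_derived F9 h hK hnII)]

theorem two_le_index : 2 ≤ (stabC M U H₀).relIndex U := by
  have h1 : (stabC M U H₀).relIndex U ≠ 1 := fun e =>
    (F9.factor M W₁ U W₂ H₀ h hK).2.2.2.1 (le_antisymm inf_le_left (Subgroup.relIndex_eq_one.1 e))
  have h0 : (stabC M U H₀).relIndex U ≠ 0 := Subgroup.index_ne_zero_of_finite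
  omega

theorem arith (hG : IsMinSimpleOddOrder G) :
    4 * Nat.card W₁ ^ 2 + 1 < Nat.card W₂ ^ Nat.card W₁ := by
  have hp := prime_W₂ F9 h hK hnII
  have hp3 : 3 ≤ Nat.card W₂ := by
    obtain ⟨k, hk⟩ := Hyp9.odd_card hG W₂
    have := hp.two_le
    omega
  refine four_sq_add_one_lt hp3 (h.three_le hG) (Hyp9.odd_card hG W₂) (Hyp9.odd_card hG W₁)
    fun e => ?_
  have := h.coprime_W₂
  rw [← e, Nat.coprime_self] at this
  omega

/-- (11.3): by (6.3) and (10.8), `S(X)` is not coherent when `|H C : X| ≥ p ^ q`. -/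
theorem not_coherent_of_index (hG : IsMinSimpleOddOrder G) [Fintype ↥M] (N10 : NonCoherence G)
    (R5 : DerivedSystem G) {X : Subgroup G} (hX : X ≤ fittingHallOf M ⊔ stabC M U H₀)
    (hXn : M ≤ Subgroup.normalizer (X : Set G))
    (hbig : Nat.card W₂ ^ Nat.card W₁ ≤ X.relIndex (fittingHallOf M ⊔ stabC M U H₀)) :
    ¬ IsCoherent (inducedIrrAbove (derivedIn M) (X.subgroupOf M)) {1}ᶜ
      (dadeIsometry (coreA0 M) M (supportR M)) := by
  intro hcoh
  obtain ⟨R, hR⟩ := R5 M W₁ U W₂ h hnII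
  refine N10 M W₁ U W₂ h hnII ?_
  set T := fittingHallOf M ⊔ stabC M U H₀ with hT
  have hTD : T ≤ ⁅M, M⁆ := sup_stab_le_derived F9 h hK hnII
  have hTM : T ≤ M := hTD.trans h.le_M.2.2.1
  have hTn : M ≤ Subgroup.normalizer (T : Set G) := (F9.factor M W₁ U W₂ H₀ h hK).2.2.2.2.2.1
  haveI : (X.subgroupOf M).Normal := Subgroup.normal_subgroupOf_of_le_normalizer hXn
  haveI : (T.subgroupOf M).Normal := Subgroup.normal_subgroupOf_of_le_normalizer hTn
  haveI : ((⊥ : Subgroup ↥M).subgroupOf (T.subgroupOf M)).Normal := inferInstance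
  have hnil : Group.IsNilpotent (↥(T.subgroupOf M) ⧸ (⊥ : Subgroup ↥M).subgroupOf (T.subgroupOf M)) := by
    haveI : Group.IsNilpotent ↥(T.subgroupOf M) :=
      haveI : Group.IsNilpotent ↥T := sup_stab_nilpotent F9 h hK hnII
      Group.nilpotent_of_mulEquiv (Subgroup.subgroupOfEquivOfLe hTM).symm
    infer_instance
  refine S1520.result (derivedIn M) (h.solvable_derivedIn hG) _ R hR ⊥ (X.subgroupOf M) (T.subgroupOf M)
    bot_le (fun a ha => hX ha) (fun a ha => hTD ha) hnil hcoh ?_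
  rw [Subgroup.relIndex_subgroupOf hTM, h.derivedIn_index]
  exact lt_of_lt_of_le (arith F9 h hK hnII hG) hbig

omit F9 hK hnII in
/-- `W₁` has no fixed point on `T / N` when `W₂ ≤ N`, so `|T : N| ≡ 1 (mod q)`. -/
theorem modEq_one {T N : Subgroup G} (hG : IsMinSimpleOddOrder G) (hT : T ≤ ⁅M, M⁆) (hNT : N ≤ T)
    (hTn : M ≤ Subgroup.normalizer (T : Set G)) (hNn : M ≤ Subgroup.normalizer (N : Set G))
    (hW : W₂ ≤ N) : N.relIndex T ≡ 1 [MOD Nat.card W₁] := by
  haveI : (N.subgroupOf T).Normal :=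
    Subgroup.normal_subgroupOf_of_le_normalizer ((hT.trans h.le_M.2.2.1).trans hNn)
  haveI := Fact.mk h.prime
  let φ := chiefAct (H₀ := N) (h.le_M.2.2.2.1.trans hTn) (h.le_M.2.2.2.1.trans hNn)
  letI : MulAction W₁ (↥T ⧸ N.subgroupOf T) := MulAction.compHom _ φ
  have hq : IsPGroup (Nat.card W₁) W₁ := IsPGroup.of_card (n := 1) (pow_one _).symm
  have h1 := hq.card_modEq_card_fixedPoints (↥T ⧸ N.subgroupOf T)
  have hsmul : ∀ (w : W₁) (t : T), w • (QuotientGroup.mk t : ↥T ⧸ N.subgroupOf T) =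
      QuotientGroup.mk (Coprime.conjAut (h.le_M.2.2.2.1.trans hTn) w t) := fun w t => by
    show φ w _ = _
    simp only [φ, chiefAct, quotAct_mk]
  have h2 : MulAction.fixedPoints W₁ (↥T ⧸ N.subgroupOf T) = {1} := by
    refine Set.eq_singleton_iff_unique_mem.2 ⟨fun w => show φ w 1 = 1 from map_one _, fun a ha => ?_⟩
    obtain ⟨⟨k, hk⟩, rfl⟩ := QuotientGroup.mk_surjective a
    obtain ⟨c, hc, hck⟩ := Coprime.exists_mem_centralizer_of_coset' (A := W₁) (K := T) (N := N)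
      (h.le_M.2.2.2.1.trans hTn) (h.coprime_W.coprime_dvd_right (Subgroup.card_dvd_of_le hT))
      (Or.inr (h.solvable hG (hT.trans h.le_M.2.2.1))) hNT (h.le_M.2.2.2.1.trans hNn) hk
      (fun w hw => by
        have h3 := (hsmul ⟨w, hw⟩ ⟨k, hk⟩).symm.trans (ha ⟨w, hw⟩)
        have h4 := QuotientGroup.eq.1 h3.symm
        rw [Subgroup.mem_subgroupOf] at h4
        simpa [Coprime.coe_conjAut, mul_assoc] using h4)
    obtain ⟨⟨x, hx⟩, hx1⟩ := Subgroup.ne_bot_iff_exists_ne_one.1 h.data.W₁_ne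
    have hcW : c ∈ W₂ := by
      rw [← h.data.W₂_centralizer x hx fun e => hx1 (Subtype.ext e)]
      exact ⟨hT hc.1, Subgroup.mem_centralizer_singleton_iff.2
        (Subgroup.mem_centralizer_iff.1 hc.2 x hx).symm⟩
    refine (QuotientGroup.eq_one_iff _).2 (Subgroup.mem_subgroupOf.2 ?_)
    have := N.mul_mem (hW hcW) (N.inv_mem hck)
    simpa [mul_inv_rev] using this
  rw [h2, Nat.card_coe_set_eq, Set.ncard_singleton] at h1
  exact h1

/-- (11.5) -/
theorem derived_two_eq (hG : IsMinSimpleOddOrder G) [Fintype ↥M] (N10 : NonCoherence G)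
    (R5 : DerivedSystem G) :
    ⁅⁅M, M⁆, ⁅M, M⁆⁆ = fittingHallOf M ⊔ stabC M U H₀ := by
  set T := fittingHallOf M ⊔ stabC M U H₀ with hT
  set A := ⁅⁅M, M⁆, ⁅M, M⁆⁆ with hA
  set C := stabC M U H₀ with hCdef
  obtain ⟨-, -, -, hCne, hUC, hTn, hXC, -⟩ := F9.factor M W₁ U W₂ H₀ h hK
  have hHn : M ≤ Subgroup.normalizer (fittingHallOf M : Set G) := le_normalizer_fittingHallOf M
  have hTD : T ≤ ⁅M, M⁆ := sup_stab_le_derived F9 h hK hnII
  have hTM : T ≤ M := hTD.trans h.le_M.2.2.1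
  have hDM : ⁅M, M⁆ ≤ M := h.le_M.2.2.1
  have hAT : A ≤ T := by
    refine (derived_two_le_aux h le_rfl (hDM.trans hHn) ?_ (Subgroup.commutator_le_self _)).trans
      (_root_.sup_le le_sup_left (hUC.trans le_sup_right))
    exact Coprime.commutator_le_left' (h.le_M.2.2.2.2.trans hHn)
  by_contra hne
  have hAn : M ≤ Subgroup.normalizer (A : Set G) := h.le_normalizer_derived
  set x := A.relIndex T with hx
  set q := Nat.card W₁ with hq
  set u := C.relIndex U with hu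
  have hu2 : 2 ≤ u := two_le_index F9 h hK hnII
  have hq3 : 3 ≤ q := h.three_le hG
  have hxodd : Odd x := (Hyp9.odd_card hG T).of_dvd_nat (Subgroup.relIndex_dvd_card _ _)
  have hx1 : x ≠ 1 := fun e => hne (le_antisymm hAT (Subgroup.relIndex_eq_one.1 e))
  have hxmod : x ≡ 1 [MOD q] := modEq_one h hG hTD hAT hTn hAn fun w hw => (h.data.W₂_le hw).2
  have hxbig : 2 * q + 1 ≤ x := by
    obtain ⟨j, hj⟩ := hxodd
    obtain ⟨i, hi⟩ : q ∣ x - 1 := (Nat.modEq_iff_dvd' (by omega)).1 hxmod.symm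
    obtain ⟨l, hl⟩ := Hyp9.odd_card hG W₁
    rcases Nat.lt_or_ge i 2 with hi2 | hi2
    · interval_cases i <;> omega
    · have := Nat.mul_le_mul_left q hi2
      omega
  have hAD : A.relIndex ⁅M, M⁆ = x * u := by
    rw [hu, hCdef, ← sup_stab_index F9 h hK hnII, ← hT, hx, Subgroup.relIndex_mul_relIndex _ _ _ hAT hTD]
  -- the subgroup `B = H₀ C'`
  set B := H₀ ⊔ ⁅C, C⁆ with hB
  have hCU : C ≤ U := inf_le_left
  have hCC : ⁅C, C⁆ ≤ C := Subgroup.commutator_le_self C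
  have hcent := stab_centralizes F9 h hK hnII
  have hBT : B ≤ T := _root_.sup_le (hK.le.trans le_sup_left) (hCC.trans le_sup_right)
  have hCn : ∀ g ∈ U ⊔ W₁, g ∈ Subgroup.normalizer ((⁅C, C⁆ : Subgroup G) : Set G) := fun g hg =>
    Coprime.mem_normalizer_of_forall fun z hz => by
      have e : C.map (MulAut.conj g).toMonoidHom = C := Coprime.conj_eq_of_mem_normalizer (hXC hg)
      rw [← e, ← Subgroup.map_commutator]
      exact ⟨z, hz, rfl⟩
  have hMC : M ≤ Subgroup.normalizer ((⁅C, C⁆ : Subgroup G) : Set G) := by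
    rw [← OddMax.compl_eq_sup h.data.W₁_compl, ← OddMax.compl_eq_sup h.data.U_compl]
    refine _root_.sup_le (_root_.sup_le ?_ fun g hg => hCn g (Subgroup.mem_sup_left hg))
      fun g hg => hCn g (Subgroup.mem_sup_right hg)
    exact ((Subgroup.le_centralizer_iff.1 hcent).trans (Subgroup.centralizer_le hCC)).trans
      (Subgroup.centralizer_le_normalizer _)
  have hBn : M ≤ Subgroup.normalizer (B : Set G) := fun g hg =>
    Coprime.mem_normalizer_of_forall fun z hz => by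
      obtain ⟨a, ha, b, hb, rfl⟩ := (Coprime.mem_sup_iff (hCC.trans (hCU.trans
        (h.le_M.2.2.2.2.trans hK.normal)))).1 hz
      rw [show g * (a * b) * g⁻¹ = (g * a * g⁻¹) * (g * b * g⁻¹) by group]
      exact mul_mem (Subgroup.mem_sup_left (conj_mem_of_le_normalizer hK.normal hg ha))
        (Subgroup.mem_sup_right (conj_mem_of_le_normalizer hMC hg hb))
  have hBbig : Nat.card W₂ ^ q ≤ B.relIndex T := by
    have hB' : Nat.card B ≤ Nat.card H₀ * Nat.card C := by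
      rw [hB, Coprime.card_sup_of_coprime ((hCC.trans hCU).trans (h.le_M.2.2.2.2.trans hK.normal))
        ((h.coprime_U.symm.coprime_dvd_left (Subgroup.card_dvd_of_le hK.le)).coprime_dvd_right
          (Subgroup.card_dvd_of_le (hCC.trans hCU)))]
      exact Nat.mul_le_mul_left _ (Subgroup.card_le_of_le hCC)
    have h1 := OddMax.card_mul_relIndex hBT
    rw [hT, card_sup_stab F9 h hK hnII, ← OddMax.card_mul_relIndex hK.le, kernel_index F9 h hK hnII] at h1
    refine Nat.le_of_mul_le_mul_left ?_ (Nat.card_pos (α := B))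
    rw [hT, h1]
    calc Nat.card B * Nat.card W₂ ^ q ≤ Nat.card H₀ * Nat.card C * Nat.card W₂ ^ q :=
          Nat.mul_le_mul_right _ hB'
      _ = _ := by rw [hq]; ring
  refine not_coherent_of_index F9 h hK hnII hG N10 R5 hBT hBn hBbig ?_
  -- (6.2)
  obtain ⟨R, hR⟩ := R5 M W₁ U W₂ h hnII
  haveI : (A.subgroupOf M).Normal := Subgroup.normal_subgroupOf_of_le_normalizer hAn
  haveI : (B.subgroupOf M).Normal := Subgroup.normal_subgroupOf_of_le_normalizer hBn
  haveI : (T.subgroupOf M).Normal := Subgroup.normal_subgroupOf_of_le_normalizer hTn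
  have hsolv := h.solvable_derivedIn hG
  have hAK : A.subgroupOf M < derivedIn M := by
    refine lt_of_le_of_ne (fun a ha => hTD (hAT ha)) fun e => ?_
    have h1 := Subgroup.relIndex_subgroupOf (H := A) hDM
    have e' : (A.subgroupOf M).relIndex (⁅M, M⁆.subgroupOf M) = 1 :=
      Subgroup.relIndex_eq_one.2 (fun a ha => e ▸ ha)
    rw [e', hAD] at h1
    have : 2 * u ≤ x * u := Nat.mul_le_mul_right _ (by omega)
    omega
  have hBK : B.subgroupOf M < derivedIn M := by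
    refine lt_of_le_of_ne (fun a ha => hTD (hBT ha)) fun e => ?_
    have hle : T ≤ B := fun t ht =>
      (e.ge (show (⟨t, hTM ht⟩ : M) ∈ derivedIn M from hTD ht) :)
    have h1 := Subgroup.relIndex_eq_one.2 hle
    have h2 := arith F9 h hK hnII hG
    rw [h1] at hBbig
    rw [← hq] at h2
    omega
  have hcohA : IsCoherent (inducedIrrAbove (derivedIn M) (A.subgroupOf M)) {1}ᶜ
      (dadeIsometry (coreA0 M) M (supportR M)) := by
    obtain ⟨φ, hφ, -⟩ := exists_linear_mem (A.subgroupOf M) hsolv hAK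
    refine uniform (sys_subset hR (inducedSet_le_bot _) ⟨φ, hφ⟩ fun χ hχ => inducedSet_conj_mem _ hχ) ?_
    intro χ hχ ψ hψ
    have hle : ⁅derivedIn M, derivedIn M⁆ ≤ A.subgroupOf M := by
      rw [Subgroup.commutator_le]
      intro a ha b hb
      exact Subgroup.commutator_mem_commutator (G := G) ha hb
    rw [FrobK.degree_of_commutator_le hle hχ, FrobK.degree_of_commutator_le hle hψ]
  refine S1519.result (derivedIn M) hsolv _ R hR (A.subgroupOf M) (B.subgroupOf M) (T.subgroupOf M)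
    (T.subgroupOf M) hAK hBK (fun a ha => hBT ha) le_rfl (fun a ha => hTD ha) ?_ hcohA ?_
  · intro a ha b hb
    rw [Subgroup.mem_subgroupOf] at ha hb ⊢
    have hnT : C ≤ Subgroup.normalizer (fittingHallOf M : Set G) := hCU.trans (h.le_M.2.2.2.2.trans hHn)
    obtain ⟨a₁, ha₁, a₂, ha₂, e1⟩ := (Coprime.mem_sup_iff hnT).1 ha
    obtain ⟨b₁, hb₁, b₂, hb₂, e2⟩ := (Coprime.mem_sup_iff hnT).1 hb
    have c1 : Commute a₁ b₂ := Subgroup.mem_centralizer_iff.1 (hcent hb₂) a₁ ha₁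
    have c2 : Commute b₁ a₂ := Subgroup.mem_centralizer_iff.1 (hcent ha₂) b₁ hb₁
    have c3 : Commute a₁ a₂ := Subgroup.mem_centralizer_iff.1 (hcent ha₂) a₁ ha₁
    have c4 : Commute b₁ b₂ := Subgroup.mem_centralizer_iff.1 (hcent hb₂) b₁ hb₁
    have e : (a : G) * b * (a : G)⁻¹ * (b : G)⁻¹ = ⁅a₁, b₁⁆ * ⁅a₂, b₂⁆ := by
      simp only [commutatorElement_def, ← e1, ← e2, mul_inv_rev]
      calc a₁ * a₂ * (b₁ * b₂) * (a₂⁻¹ * a₁⁻¹) * (b₂⁻¹ * b₁⁻¹)
          = a₁ * (a₂ * b₁) * b₂ * (a₂⁻¹ * a₁⁻¹) * (b₂⁻¹ * b₁⁻¹) := by group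
        _ = a₁ * b₁ * a₂ * b₂ * (a₁⁻¹ * a₂⁻¹) * (b₁⁻¹ * b₂⁻¹) := by
          rw [c2.symm.eq, (c3.inv_inv).symm.eq, (c4.inv_inv).symm.eq]; group
        _ = a₁ * b₁ * ((a₂ * b₂) * a₁⁻¹) * a₂⁻¹ * b₁⁻¹ * b₂⁻¹ := by group
        _ = a₁ * b₁ * a₁⁻¹ * ((a₂ * b₂ * a₂⁻¹) * b₁⁻¹) * b₂⁻¹ := by
          rw [(Commute.mul_right c3 c1).inv_left.symm.eq]; group
        _ = a₁ * b₁ * a₁⁻¹ * b₁⁻¹ * (a₂ * b₂ * a₂⁻¹ * b₂⁻¹) := by
          rw [((Commute.mul_right c2 c4).mul_right c2.inv_right).inv_left.symm.eq]; group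
    show (a : G) * b * (a : G)⁻¹ * (b : G)⁻¹ ∈ B
    rw [e]
    exact mul_mem (Subgroup.mem_sup_left (hK.comm_le (Subgroup.commutator_mem_commutator ha₁ hb₁)))
      (Subgroup.mem_sup_right (Subgroup.commutator_mem_commutator ha₂ hb₂))
  · have hidx : (T.subgroupOf M).index = q * u := by
      show T.relIndex M = _
      rw [← Subgroup.relIndex_mul_relIndex _ _ _ hTD hDM, sup_stab_index F9 h hK hnII, ← hCdef, ← hu,
        OddMax.compl_relIndex_right h.data.W₁_compl, ← hq, mul_comm]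
    rw [Subgroup.relIndex_self, mul_one, hidx]
    show _ < ((A.subgroupOf M).relIndex (⁅M, M⁆.subgroupOf M) - 1) ^ 2
    rw [Subgroup.relIndex_subgroupOf hDM, hAD, show 4 * (q * u) ^ 2 = (2 * (q * u)) ^ 2 by ring]
    refine Nat.pow_lt_pow_left ?_ two_ne_zero
    have h1 : (2 * q + 1) * u ≤ x * u := Nat.mul_le_mul_right _ hxbig
    rw [add_mul, one_mul, mul_assoc] at h1
    omega

/-- (11.6), (11.7) -/
theorem kernel_facts (hG : IsMinSimpleOddOrder G) [Fintype ↥M] (N10 : NonCoherence G)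
    (R5 : DerivedSystem G) :
    stabC M U H₀ = ⁅U, U⁆ ∧ H₀ = ⊥ ∧
      Nat.card (fittingHallOf M) = Nat.card W₂ ^ Nat.card W₁ ∧
      IsElementaryAbelian (Nat.card W₂) (fittingHallOf M) := by
  have hd := derived_two_eq F9 h hK hnII hG N10 R5
  have h0 := kernel_eq_bot F9 h hK hnII hG hd
  refine ⟨(of_derived F9 h hK hnII hG hd).1, h0, ?_, ⟨⟨fun a b => ?_⟩⟩, fun a ha => ?_⟩
  · have h1 := OddMax.card_mul_relIndex hK.le
    rw [kernel_index F9 h hK hnII] at h1
    rw [← h1, h0, Subgroup.card_bot, one_mul]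
  · refine Subtype.ext (commutatorElement_eq_one_iff_mul_comm.1 ?_)
    have h1 := hK.comm_le (Subgroup.commutator_mem_commutator a.2 b.2)
    rwa [h0, Subgroup.mem_bot] at h1
  · have h1 := (F9.factor M W₁ U W₂ H₀ h hK).2.2.1 a ha
    rwa [factorPrime_eq F9 h hK hnII, h0, Subgroup.mem_bot] at h1

end Cfsg.Agent.Peterfalvi
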