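import Cfsg.Agent.Lib.Peterfalvi.Sec11Interface
import Cfsg.Agent.Lib.Coprime.PQ
import Cfsg.Agent.Lib.Coprime.Invariant
import Cfsg.Agent.Lib.OddOrder.Decomp
import Cfsg.Agent.Lib.OddOrder.Compl

/-!
# Peterfalvi (11.5)-(11.7): the group theory (owner: helper43)

* `kernel_eq` : `H₀ = C_H(U)` for Types III, IV; `stab_centralizes`, `sup_stab_nilpotent`
* `of_derived` : if `M'' = H C` then `C = U'` and `H₀ = [H, H]`
* `kernel_eq_bot` : then `H₀ = ⊥` (no invariant alternating pairing on `H / H₀`)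
-/

set_option autoImplicit false

namespace Cfsg.Agent.Peterfalvi

open scoped Pointwise commutatorElement
open Cfsg OddMax FixedFormula

universe u

/-! ### Commutators in class two -/

section pairing
variable {Q : Type*} [Group Q] (hc : ∀ a b c : Q, c * ⁅a, b⁆ = ⁅a, b⁆ * c)
include hc

theorem pair_mul_left (a b c : Q) : ⁅a * b, c⁆ = ⁅a, c⁆ * ⁅b, c⁆ := by
  calc ⁅a * b, c⁆ = a * ⁅b, c⁆ * a⁻¹ * ⁅a, c⁆ := by simp only [commutatorElement_def]; group
    _ = ⁅b, c⁆ * ⁅a, c⁆ := by rw [hc b c a, mul_inv_cancel_right]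
    _ = ⁅a, c⁆ * ⁅b, c⁆ := hc a c _

theorem pair_mul_right (a b c : Q) : ⁅a, b * c⁆ = ⁅a, b⁆ * ⁅a, c⁆ := by
  calc ⁅a, b * c⁆ = ⁅a, b⁆ * (b * ⁅a, c⁆ * b⁻¹) := by simp only [commutatorElement_def]; group
    _ = ⁅a, b⁆ * ⁅a, c⁆ := by rw [hc a c b, mul_inv_cancel_right]

theorem pair_pow_left (a c : Q) (n : ℕ) : ⁅a ^ n, c⁆ = ⁅a, c⁆ ^ n := by
  induction n with
  | zero => simp
  | succ n ih => rw [pow_succ, pair_mul_left hc, ih, pow_succ]

theorem pair_pow_right (a c : Q) (n : ℕ) : ⁅a, c ^ n⁆ = ⁅a, c⁆ ^ n := by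
  induction n with
  | zero => simp
  | succ n ih => rw [pow_succ, pair_mul_right hc, ih, pow_succ]

omit hc in
theorem eq_one_of_sq_of_odd [Finite Q] (hodd : Odd (Nat.card Q)) {z : Q} (h : z ^ 2 = 1) : z = 1 := by
  have h2 : orderOf z ∣ 2 := orderOf_dvd_of_pow_eq_one h
  rcases (Nat.dvd_prime Nat.prime_two).1 h2 with h1 | h1
  · exact orderOf_eq_one_iff.1 h1
  · have := orderOf_dvd_natCard z
    rw [h1] at this
    exact absurd (even_iff_two_dvd.2 this) (Nat.not_even_iff_odd.2 hodd)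

end pairing

/-- A ring automorphism of order at most two of a field of odd degree over `ZMod p` is trivial. -/
theorem eq_id_of_sq {K : Type*} [Field K] [Finite K] {p q : ℕ} (hp : p.Prime) (hq : Odd q)
    (hK : Nat.card K = p ^ q) (σ : K ≃+* K) (hσ : ∀ x, σ (σ x) = x) (x : K) : σ x = x := by
  haveI := Fact.mk hp
  haveI : Fintype K := Fintype.ofFinite K
  have hq0 : q ≠ 0 := fun h => by simp [h] at hq
  haveI : CharP K p := by
    obtain ⟨c, hc⟩ := CharP.exists K
    haveI := hc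
    haveI : Fact c.Prime := ⟨CharP.char_is_prime K c⟩
    obtain ⟨k, -, hk⟩ := FiniteField.card K c
    have hd : c ∣ p := by
      refine (Fact.out : c.Prime).dvd_of_dvd_pow (n := q) ?_
      rw [← hK, Nat.card_eq_fintype_card, hk]
      exact dvd_pow_self c (PNat.ne_zero k)
    rwa [← (Nat.prime_dvd_prime_iff_eq (Fact.out : c.Prime) hp).1 hd]
  letI : Algebra (ZMod p) K := ZMod.algebra K p
  have hfr : Module.finrank (ZMod p) K = q := by
    have h := Module.natCard_eq_pow_finrank (K := ZMod p) (V := K)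
    rw [hK, Nat.card_zmod] at h
    exact (Nat.pow_right_injective hp.two_le h).symm
  let g : K ≃ₐ[ZMod p] K := AlgEquiv.ofRingEquiv (f := σ) fun r =>
    RingHom.congr_fun (RingHom.ext_zmod ((σ : K →+* K).comp (algebraMap (ZMod p) K)) (algebraMap (ZMod p) K)) r
  have hcard : Nat.card (K ≃ₐ[ZMod p] K) = q := (IsGalois.card_aut_eq_finrank (ZMod p) K).trans hfr
  have hg2 : g ^ 2 = 1 := AlgEquiv.ext fun y => by rw [pow_two]; exact hσ y
  have hg1 : g = 1 := eq_one_of_sq_of_odd (by rw [hcard]; exact hq) hg2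
  exact AlgEquiv.congr_fun hg1 x

variable {G : Type u} [Group G] [Fintype G] {M W₁ U W₂ H₀ : Subgroup G}

/-! ### Arithmetic -/

theorem Hyp9.odd_card (hG : IsMinSimpleOddOrder G) (X : Subgroup G) : Odd (Nat.card X) :=
  Odd.of_dvd_nat hG.1 (Subgroup.card_subgroup_dvd_card X)

theorem Hyp9.three_le (hG : IsMinSimpleOddOrder G) (h : Hyp9 M W₁ U W₂) : 3 ≤ Nat.card W₁ := by
  obtain ⟨k, hk⟩ := Hyp9.odd_card hG W₁
  have := h.prime.two_le
  omega

theorem Hyp9.coprime_W₂ (h : Hyp9 M W₁ U W₂) : (Nat.card W₁).Coprime (Nat.card W₂) :=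
  h.coprime_W.coprime_dvd_right
    (Subgroup.card_dvd_of_le fun _ hx => h.le_M.1 (h.data.W₂_le hx).1)

/-! ### `H₀ = C_H(U)` -/

variable (F9 : Sec9Facts G) (h : Hyp9 M W₁ U W₂) (hK : IsChiefKernel M U H₀) (hnII : ¬ IsOfTypeII M)
include F9 h hK hnII

theorem prime_W₂ : (Nat.card W₂).Prime := ((F9.core M W₁ U W₂ H₀ h hK).2 hnII).1

theorem factorPrime_eq : factorPrime W₂ H₀ = Nat.card W₂ :=
  ((F9.core M W₁ U W₂ H₀ h hK).2 hnII).2.1

theorem kernel_index : H₀.relIndex (fittingHallOf M) = Nat.card W₂ ^ Nat.card W₁ := by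
  rw [← factorPrime_eq F9 h hK hnII]
  exact (F9.factor M W₁ U W₂ H₀ h hK).2.1

theorem kernel_eq : H₀ = fittingHallOf M ⊓ Subgroup.centralizer (U : Set G) := by
  refine (Subgroup.eq_of_le_of_card_ge hK.fixed_le ?_).symm
  obtain ⟨-, -, -, hc⟩ := (F9.core M W₁ U W₂ H₀ h hK).2 hnII
  have h1 := OddMax.card_mul_relIndex hK.le
  rw [kernel_index F9 h hK hnII, hc, mul_comm (Nat.card W₂ ^ Nat.card W₁)] at h1
  exact (Nat.eq_of_mul_eq_mul_right (pow_pos (prime_W₂ F9 h hK hnII).pos _) h1).le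

theorem stab_centralizes : stabC M U H₀ ≤ Subgroup.centralizer (fittingHallOf M : Set G) := by
  rintro v ⟨hvU, hv1, hv2, hv3⟩
  rw [Subgroup.mem_centralizer_iff]
  intro x hx
  set z := x⁻¹ * (v * x * v⁻¹) with hz
  have hzH0 : z ∈ H₀ := hv3 x hx
  have hzv : v * z = z * v := by
    have h1 : z ∈ fittingHallOf M ⊓ Subgroup.centralizer (U : Set G) := by
      rwa [← kernel_eq F9 h hK hnII]
    exact Subgroup.mem_centralizer_iff.1 h1.2 v hvU
  have hiter : ∀ k : ℕ, v ^ k * x * (v ^ k)⁻¹ = x * z ^ k := by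
    intro k
    induction k with
    | zero => simp
    | succ k ih =>
      calc v ^ (k + 1) * x * (v ^ (k + 1))⁻¹
          = v * (v ^ k * x * (v ^ k)⁻¹) * v⁻¹ := by rw [pow_succ']; group
        _ = (v * x * v⁻¹) * (v * z ^ k * v⁻¹) := by rw [ih]; group
        _ = x * z ^ (k + 1) := by
          rw [show v * x * v⁻¹ = x * z by rw [hz]; group,
            show v * z ^ k * v⁻¹ = z ^ k by
              rw [((Commute.pow_right hzv k) : Commute v (z ^ k)).eq, mul_inv_cancel_right],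
            mul_assoc, ← pow_succ']
  have h1 := hiter (orderOf v)
  rw [pow_orderOf_eq_one, inv_one, one_mul, mul_one, left_eq_mul] at h1
  have hz1 : z = 1 := by
    have hd1 : orderOf z ∣ orderOf v := orderOf_dvd_of_pow_eq_one h1
    have hd2 : orderOf z ∣ Nat.card (fittingHallOf M) :=
      Subgroup.orderOf_dvd_natCard _ (hK.le hzH0)
    exact orderOf_eq_one_iff.1 (Nat.eq_one_of_dvd_coprimes h.coprime_U
      (hd1.trans (Subgroup.orderOf_dvd_natCard _ hvU)) hd2)
  have h2 : v * x * v⁻¹ = x := by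
    rw [show v * x * v⁻¹ = x * z by rw [hz]; group, hz1, mul_one]
  exact (mul_inv_eq_iff_eq_mul.1 h2).symm

theorem sup_stab_nilpotent :
    Group.IsNilpotent ↥(fittingHallOf M ⊔ stabC M U H₀ : Subgroup G) := by
  haveI := h.data.U_nilpotent
  have hC : Group.IsNilpotent ↥(stabC M U H₀) :=
    Group.nilpotent_of_mulEquiv (Subgroup.subgroupOfEquivOfLe
      (inf_le_left : stabC M U H₀ ≤ U))
  exact OddMax.nilpotent_sup_of_commute (fittingHallOf_nilpotent M) hC
    (Subgroup.le_centralizer_iff.1 (stab_centralizes F9 h hK hnII))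

/-! ### Consequences of `M'' = H C` -/

omit F9 hK hnII in
theorem derived_two_le_aux {N : Subgroup G} (hN : N ≤ fittingHallOf M)
    (hn : ⁅M, M⁆ ≤ Subgroup.normalizer (N : Set G)) (h1 : ⁅fittingHallOf M, U⁆ ≤ N)
    (h2 : ⁅fittingHallOf M, fittingHallOf M⁆ ≤ N) :
    ⁅⁅M, M⁆, ⁅M, M⁆⁆ ≤ N ⊔ ⁅U, U⁆ := by
  set D := ⁅M, M⁆ with hD
  haveI : (N.subgroupOf D).Normal := Subgroup.normal_subgroupOf_of_le_normalizer hn
  set π := QuotientGroup.mk' (N.subgroupOf D) with hπ
  have hHD : fittingHallOf M ≤ D := h.le_M.1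
  have hUD : U ≤ D := h.le_M.2.1
  have hcomm : ∀ a : D, (a : G) ∈ fittingHallOf M → ∀ b : D,
      ((b : G) ∈ fittingHallOf M ∨ (b : G) ∈ U) → ⁅π a, π b⁆ = 1 := by
    intro a ha b hb
    rw [← map_commutatorElement, hπ, QuotientGroup.mk'_apply, QuotientGroup.eq_one_iff,
      Subgroup.mem_subgroupOf]
    show ⁅(a : G), (b : G)⁆ ∈ N
    rcases hb with hb | hb
    · exact h2 (Subgroup.commutator_mem_commutator ha hb)
    · exact h1 (Subgroup.commutator_mem_commutator ha hb)
  rw [Subgroup.commutator_le]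
  intro g hg g' hg'
  obtain ⟨a, ha, v, hv, rfl⟩ := h.data.U_compl.2.2.2 g hg
  obtain ⟨a', ha', v', hv', rfl⟩ := h.data.U_compl.2.2.2 g' hg'
  let A : D := ⟨a, hHD ha⟩
  let A' : D := ⟨a', hHD ha'⟩
  let V : D := ⟨v, hUD hv⟩
  let V' : D := ⟨v', hUD hv'⟩
  have e1 : Commute (π A) (π A') := commutatorElement_eq_one_iff_mul_comm.1 (hcomm A ha A' (Or.inl ha'))
  have e2 : Commute (π A) (π V') := commutatorElement_eq_one_iff_mul_comm.1 (hcomm A ha V' (Or.inr hv'))
  have e3 : Commute (π A') (π V) := commutatorElement_eq_one_iff_mul_comm.1 (hcomm A' ha' V (Or.inr hv))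
  have e4 : Commute (π A) (π V) := commutatorElement_eq_one_iff_mul_comm.1 (hcomm A ha V (Or.inr hv))
  have e5 : Commute (π A') (π V') := commutatorElement_eq_one_iff_mul_comm.1 (hcomm A' ha' V' (Or.inr hv'))
  have key : π ⁅A * V, A' * V'⁆ = π ⁅V, V'⁆ := by
    rw [map_commutatorElement, map_commutatorElement, map_mul, map_mul]
    have hA' : Commute (π A) ⁅π V, π V'⁆ := by
      rw [commutatorElement_def]
      exact ((e4.mul_right e2).mul_right e4.inv_right).mul_right e2.inv_right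
    have hA'' : Commute (π A') ⁅π V, π V'⁆ := by
      rw [commutatorElement_def]
      exact ((e3.mul_right e5).mul_right e3.inv_right).mul_right e5.inv_right
    have c1 : ⁅π V, π A' * π V'⁆ = ⁅π V, π V'⁆ := by
      calc ⁅π V, π A' * π V'⁆ = ⁅π V, π A'⁆ * (π A' * ⁅π V, π V'⁆ * (π A')⁻¹) := by
            simp only [commutatorElement_def]; group
        _ = ⁅π V, π V'⁆ := by
          rw [commutatorElement_eq_one_iff_mul_comm.2 e3.symm.eq, one_mul, hA''.eq, mul_inv_cancel_right]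
    have c2 : ⁅π A, π A' * π V'⁆ = 1 :=
      commutatorElement_eq_one_iff_mul_comm.2 (e1.mul_right e2).eq
    calc ⁅π A * π V, π A' * π V'⁆
        = π A * ⁅π V, π A' * π V'⁆ * (π A)⁻¹ * ⁅π A, π A' * π V'⁆ := by
          simp only [commutatorElement_def]; group
      _ = ⁅π V, π V'⁆ := by rw [c1, c2, mul_one, hA'.eq, mul_inv_cancel_right]
  rw [hπ, QuotientGroup.mk'_apply, QuotientGroup.mk'_apply, QuotientGroup.eq,
    Subgroup.mem_subgroupOf] at key
  have h3 : ⁅v, v'⁆ ∈ N ⊔ ⁅U, U⁆ :=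
    Subgroup.mem_sup_right (Subgroup.commutator_mem_commutator hv hv')
  have h4 : (⁅a * v, a' * v'⁆)⁻¹ * ⁅v, v'⁆ ∈ N := key
  have h5 := mul_mem h3 (inv_mem (Subgroup.mem_sup_left (T := ⁅U, U⁆) h4))
  rwa [mul_inv_rev, inv_inv, mul_inv_cancel_left] at h5

/-- If `M'' = H C` then `C = U'` and `H₀ = [H, H]`. -/
theorem of_derived (hG : IsMinSimpleOddOrder G)
    (hd : ⁅⁅M, M⁆, ⁅M, M⁆⁆ = fittingHallOf M ⊔ stabC M U H₀) :
    stabC M U H₀ = ⁅U, U⁆ ∧ H₀ = ⁅fittingHallOf M, fittingHallOf M⁆ := by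
  set H := fittingHallOf M with hH
  have hHn : M ≤ Subgroup.normalizer (H : Set G) := le_normalizer_fittingHallOf M
  have hUM : U ≤ M := h.le_M.2.2.2.2
  have hUH : U ≤ Subgroup.normalizer (H : Set G) := hUM.trans hHn
  have hDM : ⁅M, M⁆ ≤ M := h.le_M.2.2.1
  set K := ⁅H, U⁆ ⊔ ⁅H, H⁆ with hKdef
  have hKH : K ≤ H := _root_.sup_le
    (Coprime.commutator_le_left' hUH) (Subgroup.commutator_le_self H)
  have hHHn : M ≤ Subgroup.normalizer ((⁅H, H⁆ : Subgroup G) : Set G) := fun g hg =>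
    Coprime.mem_normalizer_of_forall fun z hz => by
      have hg' := hHn hg
      have e : MulAut.conj g • ⁅H, H⁆ = ⁅H, H⁆ := by
        show ⁅H, H⁆.map (MulAut.conj g).toMonoidHom = _
        rw [Subgroup.map_commutator]
        have : H.map (MulAut.conj g).toMonoidHom = H := Coprime.conj_eq_of_mem_normalizer hg'
        rw [this]
      rw [← e]
      exact Coprime.conj_mem_conj.2 hz
  have hHKn : H ≤ Subgroup.normalizer (K : Set G) := by
    intro g hg
    refine Coprime.mem_normalizer_of_forall fun z hz => ?_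
    rw [show g * z * g⁻¹ = ⁅g, z⁆ * z by rw [commutatorElement_def]; group]
    exact mul_mem (Subgroup.mem_sup_right (Subgroup.commutator_mem_commutator hg (hKH hz))) hz
  have hUKn : U ≤ Subgroup.normalizer (K : Set G) := by
    intro g hg
    refine Coprime.mem_normalizer_of_forall fun z hz => ?_
    rw [show g * z * g⁻¹ = ⁅g, z⁆ * z by rw [commutatorElement_def]; group]
    refine mul_mem (Subgroup.mem_sup_left ?_) hz
    rw [Subgroup.commutator_comm]
    exact Subgroup.commutator_mem_commutator hg (hKH hz)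
  have hDn : ∀ X : Subgroup G, H ≤ Subgroup.normalizer (X : Set G) →
      U ≤ Subgroup.normalizer (X : Set G) → ⁅M, M⁆ ≤ Subgroup.normalizer (X : Set G) :=
    fun X h1 h2 => by
      rw [← OddMax.compl_eq_sup h.data.U_compl]
      exact _root_.sup_le h1 h2
  have hle := derived_two_le_aux h hKH (hDn K hHKn hUKn) le_sup_left le_sup_right
  rw [hd] at hle
  have hUU : ⁅U, U⁆ ≤ U := Subgroup.commutator_le_self U
  have hsplit : ∀ (X : Subgroup G), X ≤ H → U ≤ Subgroup.normalizer (X : Set G) → ∀ y ∈ X ⊔ ⁅U, U⁆,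
      ∃ a ∈ X, ∃ b ∈ ⁅U, U⁆, y = a * b := by
    intro X hX hXn y hy
    rw [Coprime.mem_sup_iff (hUU.trans hXn)] at hy
    obtain ⟨n, hn, b, hb, rfl⟩ := hy
    exact ⟨n, hn, b, hb, rfl⟩
  have hbot : ∀ {y}, y ∈ H → y ∈ U → y = 1 := fun {y} h1 h2 => by
    have : y ∈ H ⊓ U := ⟨h1, h2⟩
    rwa [h.H_U_inf, Subgroup.mem_bot] at this
  have hHK : H ≤ K := by
    intro y hy
    obtain ⟨a, ha, b, hb, rfl⟩ := hsplit K hKH hUKn y (hle (Subgroup.mem_sup_left hy))
    have : b = 1 := hbot (by simpa using mul_mem (inv_mem (hKH ha)) hy) (hUU hb)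
    rw [this, mul_one]; exact ha
  refine ⟨le_antisymm ?_ (F9.factor M W₁ U W₂ H₀ h hK).2.2.2.2.1, le_antisymm ?_ hK.comm_le⟩
  · intro y hy
    obtain ⟨a, ha, b, hb, rfl⟩ := hsplit K hKH hUKn y (hle (Subgroup.mem_sup_right hy))
    have : a = 1 := hbot (hKH ha) (by simpa using U.mul_mem (show a * b ∈ U from hy.1) (U.inv_mem (hUU hb)))
    rw [this, one_mul]; exact hb
  · -- a fixed point of `U` in `H` maps to a fixed point of `U` in `H / H'`
    set D := ⁅H, H⁆ with hD
    haveI : (D.subgroupOf H).Normal :=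
      Subgroup.normal_subgroupOf_of_le_normalizer ((OddTypeP.fittingHallOf_le M).trans hHHn)
    let A := ↥H ⧸ D.subgroupOf H
    letI : CommGroup A :=
      { (inferInstance : Group A) with
        mul_comm := by
          rintro ⟨a⟩ ⟨b⟩
          refine QuotientGroup.eq.2 ?_
          show ((a : G) * b)⁻¹ * (b * a) ∈ D
          rw [show ((a : G) * b)⁻¹ * (b * a) = ⁅(b : G)⁻¹, (a : G)⁻¹⁆ by
            rw [commutatorElement_def]; group]
          exact Subgroup.commutator_mem_commutator (inv_mem b.2) (inv_mem a.2) }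
    let φ := chiefAct (H₀ := D) hUH (hUM.trans hHHn)
    haveI := Fintype.ofFinite U
    let N : A →* A := ∏ v : U, (φ v).toMonoidHom
    have hNapp : ∀ a, N a = ∏ v : U, φ v a := fun a => by
      simp [N, MonoidHom.finset_prod_apply]
    have hNu : ∀ (v : U) a, N (φ v a) = N a := fun v a => by
      rw [hNapp, hNapp]
      refine Fintype.prod_equiv (Equiv.mulRight v) _ _ fun w => ?_
      simp [map_mul]
    have hker : K.subgroupOf H ≤ (N.comp (QuotientGroup.mk' (D.subgroupOf H))).ker := by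
      have : K ≤ ((N.comp (QuotientGroup.mk' (D.subgroupOf H))).ker).map H.subtype := by
        refine _root_.sup_le ?_ ?_
        · rw [Subgroup.commutator_le]
          intro x hx v hv
          have hc : ⁅x, v⁆ ∈ H := Coprime.commutator_le_left' hUH
            (Subgroup.commutator_mem_commutator hx hv)
          refine ⟨⟨⁅x, v⁆, hc⟩, ?_, rfl⟩
          rw [SetLike.mem_coe, MonoidHom.mem_ker, MonoidHom.comp_apply, QuotientGroup.mk'_apply]
          have e : (⟨⁅x, v⁆, hc⟩ : H) = ⟨x, hx⟩ * Coprime.conjAut hUH ⟨v, hv⟩ (⟨x, hx⟩ : H)⁻¹ :=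
            Subtype.ext (by
              simp only [Subgroup.coe_mul, Coprime.coe_conjAut, Subgroup.coe_inv, commutatorElement_def]
              group)
          rw [e, QuotientGroup.mk_mul, map_mul,
            ← show φ ⟨v, hv⟩ (QuotientGroup.mk (⟨x, hx⟩ : H)⁻¹) =
              QuotientGroup.mk (Coprime.conjAut hUH ⟨v, hv⟩ (⟨x, hx⟩ : H)⁻¹) from quotAct_mk _ _ _ _ _,
            hNu, ← map_mul, ← QuotientGroup.mk_mul, mul_inv_cancel, QuotientGroup.mk_one, map_one]
        · intro x hx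
          refine ⟨⟨x, Subgroup.commutator_le_self H hx⟩, ?_, rfl⟩
          rw [SetLike.mem_coe, MonoidHom.mem_ker, MonoidHom.comp_apply, QuotientGroup.mk'_apply,
            (QuotientGroup.eq_one_iff _).2 (Subgroup.mem_subgroupOf.2 hx), map_one]
      intro x hx
      obtain ⟨y, hy, hyx⟩ := this (Subgroup.mem_subgroupOf.1 hx)
      rwa [show x = y from Subtype.ext hyx.symm]
    intro x hx
    have hxH : x ∈ H := hK.le hx
    have hfix : ∀ v : U, φ v (QuotientGroup.mk ⟨x, hxH⟩) = QuotientGroup.mk ⟨x, hxH⟩ := fun v => by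
      refine (quotAct_mk _ _ _ _ _).trans ?_
      congr 1
      refine Subtype.ext ?_
      rw [Coprime.coe_conjAut]
      have h1 : x ∈ H ⊓ Subgroup.centralizer (U : Set G) := by rwa [← kernel_eq F9 h hK hnII]
      rw [Subgroup.mem_centralizer_iff.1 h1.2 v v.2, mul_inv_cancel_right]
    have h1 : (QuotientGroup.mk ⟨x, hxH⟩ : A) ^ Nat.card U = 1 := by
      have h2 := hker (Subgroup.mem_subgroupOf.2 (hHK hxH) : (⟨x, hxH⟩ : H) ∈ K.subgroupOf H)
      rw [MonoidHom.mem_ker, MonoidHom.comp_apply, QuotientGroup.mk'_apply, hNapp,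
        Finset.prod_congr rfl fun v _ => hfix v, Finset.prod_const, Finset.card_univ,
        ← Nat.card_eq_fintype_card] at h2
      exact h2
    have h2 : (QuotientGroup.mk ⟨x, hxH⟩ : A) = 1 := orderOf_eq_one_iff.1
      (Nat.eq_one_of_dvd_coprimes h.coprime_U (orderOf_dvd_of_pow_eq_one h1)
        ((orderOf_dvd_natCard _).trans (Subgroup.card_quotient_dvd_card _)))
    exact Subgroup.mem_subgroupOf.1 ((QuotientGroup.eq_one_iff _).1 h2)

omit F9 h hK hnII in
theorem mem_of_sq_mem {S : Subgroup G} (hodd : Odd (Nat.card G)) {v : G} (h2 : v ^ 2 ∈ S) : v ∈ S := by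
  obtain ⟨k, hk⟩ := Odd.of_dvd_nat hodd (orderOf_dvd_natCard v)
  have e : v = (v ^ 2) ^ (k + 1) := by
    rw [← pow_mul, show 2 * (k + 1) = orderOf v + 1 by omega, pow_succ, pow_orderOf_eq_one, one_mul]
  rw [e]
  exact pow_mem h2 _

/-- (11.7): if `M'' = H C` then `H₀ = ⊥`. -/
theorem kernel_eq_bot (hG : IsMinSimpleOddOrder G)
    (hd : ⁅⁅M, M⁆, ⁅M, M⁆⁆ = fittingHallOf M ⊔ stabC M U H₀) : H₀ = ⊥ := by
  obtain ⟨-, hH0⟩ := of_derived F9 h hK hnII hG hd
  obtain ⟨hp, hidx, hexp, hCne, -, -, -, -⟩ := F9.factor M W₁ U W₂ H₀ h hK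
  set H := fittingHallOf M with hH
  have hHnil : Group.IsNilpotent H := fittingHallOf_nilpotent M
  have hUH : U ≤ Subgroup.normalizer (H : Set G) :=
    h.le_M.2.2.2.2.trans (le_normalizer_fittingHallOf M)
  set D : Subgroup ↥H := _root_.commutator ↥H with hD
  set D2 : Subgroup ↥H := ⁅D, (⊤ : Subgroup ↥H)⁆ with hD2
  set π := QuotientGroup.mk' D2 with hπ
  have hc : ∀ a b c : ↥H ⧸ D2, c * ⁅a, b⁆ = ⁅a, b⁆ * c := by
    rintro ⟨a⟩ ⟨b⟩ ⟨c⟩
    show π c * ⁅π a, π b⁆ = ⁅π a, π b⁆ * π c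
    refine (commutatorElement_eq_one_iff_mul_comm.1 ?_).symm
    rw [← map_commutatorElement, ← map_commutatorElement, hπ, QuotientGroup.mk'_apply,
      QuotientGroup.eq_one_iff, hD2]
    exact Subgroup.commutator_mem_commutator
      (Subgroup.commutator_mem_commutator (Subgroup.mem_top a) (Subgroup.mem_top b)) (Subgroup.mem_top c)
  let B : ↥H → ↥H → ↥H ⧸ D2 := fun x y => ⁅π x, π y⁆
  have Bml : ∀ x y z, B (x * y) z = B x z * B y z := fun x y z => by
    show ⁅π (x * y), π z⁆ = _; rw [map_mul]; exact pair_mul_left hc _ _ _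
  have Bmr : ∀ x y z, B x (y * z) = B x y * B x z := fun x y z => by
    show ⁅π x, π (y * z)⁆ = _; rw [map_mul]; exact pair_mul_right hc _ _ _
  have Bsw : ∀ x y, B y x = (B x y)⁻¹ := fun x y => (commutatorElement_inv _ _).symm
  have hDmem : ∀ x : ↥H, (x : G) ∈ H₀ ↔ x ∈ D := fun x => by
    rw [hH0, hD, ← Subgroup.map_subtype_commutator]
    exact Subgroup.mem_map_iff_mem H.subtype_injective
  have B0 : ∀ x y : ↥H, (x : G) ∈ H₀ → B x y = 1 := fun x y hx => by
    show ⁅π x, π y⁆ = 1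
    rw [← map_commutatorElement, hπ, QuotientGroup.mk'_apply, QuotientGroup.eq_one_iff, hD2]
    exact Subgroup.commutator_mem_commutator ((hDmem x).1 hx) (Subgroup.mem_top y)
  have B0' : ∀ x y : ↥H, (y : G) ∈ H₀ → B x y = 1 := fun x y hy => by
    rw [Bsw, B0 y x hy, inv_one]
  have Bcongr : ∀ x x' y y' : ↥H, ((x⁻¹ * x' : ↥H) : G) ∈ H₀ → ((y⁻¹ * y' : ↥H) : G) ∈ H₀ →
      B x' y' = B x y := fun x x' y y' hx hy => by
    rw [← mul_inv_cancel_left x x', ← mul_inv_cancel_left y y', Bml, Bmr x y, Bmr (x⁻¹ * x') y,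
      B0 _ y hx, B0 _ (y⁻¹ * y') hx, B0' x _ hy, one_mul, mul_one, mul_one]
  have Binv : ∀ (v : U) (x y : ↥H),
      B (Coprime.conjAut hUH v x) (Coprime.conjAut hUH v y) = B x y := by
    intro v x y
    show ⁅π _, π _⁆ = ⁅π x, π y⁆
    rw [← map_commutatorElement π, ← map_commutatorElement π,
      ← map_commutatorElement (Coprime.conjAut hUH v)]
    refine congrArg π ?_
    refine Subtype.ext ?_
    rw [Coprime.coe_conjAut]
    have h0 : ((⁅x, y⁆ : ↥H) : G) ∈ H₀ := (hDmem _).2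
      (Subgroup.commutator_mem_commutator (Subgroup.mem_top x) (Subgroup.mem_top y))
    have h1 : ((⁅x, y⁆ : ↥H) : G) ∈ H ⊓ Subgroup.centralizer (U : Set G) := by
      rwa [← kernel_eq F9 h hK hnII]
    rw [Subgroup.mem_centralizer_iff.1 h1.2 v v.2, mul_inv_cancel_right]
  have Bp : ∀ x y : ↥H, B x y ^ Nat.card W₂ = 1 := by
    intro x y
    show ⁅π x, π y⁆ ^ _ = 1
    rw [← pair_pow_left hc, ← map_pow]
    refine B0 _ y ?_
    rw [SubmonoidClass.coe_pow, ← factorPrime_eq F9 h hK hnII]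
    exact hexp x x.2
  by_cases hall : ∀ x y, B x y = 1
  · have hD' : D ≤ ⁅D, (⊤ : Subgroup ↥H)⁆ := by
      rw [← hD2, hD, commutator_def, Subgroup.commutator_le]
      intro a _ b _
      rw [← QuotientGroup.eq_one_iff, ← QuotientGroup.mk'_apply, map_commutatorElement]
      exact hall a b
    have hbot : D = ⊥ := Coprime.eq_bot_of_le_commutator le_top
      (Group.nilpotent_of_mulEquiv Subgroup.topEquiv.symm) hD'
    rw [hH0, ← Subgroup.map_subtype_commutator, ← hD, hbot, Subgroup.map_bot]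
  exfalso
  by_cases hgal : IsGaloisPair M U H₀
  · obtain ⟨K, hKf, hKfin, f, ψ, -, hKcard, hsurj, hadd, hker, hψ, hψm, hψC, -, -, -, -⟩ :=
      F9.galois_field M W₁ U W₂ H₀ h hK hgal
    letI := hKf
    haveI := hKfin
    have hf1 : f 1 = 0 := by
      have h1 := hadd 1 H.one_mem 1 H.one_mem
      rw [mul_one] at h1
      linear_combination -h1
    have hfinv : ∀ x ∈ H, f x⁻¹ = -f x := fun x hx => by
      have h1 := hadd x⁻¹ (H.inv_mem hx) x hx
      rw [inv_mul_cancel, hf1] at h1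
      linear_combination -h1
    have hg : ∀ a : K, ∃ x : ↥H, f x = a := fun a => by
      obtain ⟨x, hx, hxa⟩ := hsurj (Set.mem_univ a)
      exact ⟨⟨x, hx⟩, hxa⟩
    choose g hg using hg
    let β : K → K → ↥H ⧸ D2 := fun a b => B (g a) (g b)
    have hβ : ∀ x y : ↥H, β (f x) (f y) = B x y := fun x y => by
      refine Bcongr x _ y _ ?_ ?_ <;>
      · rw [Subgroup.coe_mul, Subgroup.coe_inv, ← hker _ (H.mul_mem (H.inv_mem (SetLike.coe_mem _))
          (SetLike.coe_mem _)), hadd _ (H.inv_mem (SetLike.coe_mem _)) _ (SetLike.coe_mem _),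
          hfinv _ (SetLike.coe_mem _), hg, neg_add_cancel]
    have hβl : ∀ a b c, β (a + b) c = β a c * β b c := fun a b c => by
      have h1 := hβ (g a * g b) (g c)
      rw [Subgroup.coe_mul, hadd _ (g a).2 _ (g b).2, hg, hg, hg, Bml] at h1
      exact h1
    have hβr : ∀ a b c, β a (b + c) = β a b * β a c := fun a b c => by
      have h1 := hβ (g a) (g b * g c)
      rw [Subgroup.coe_mul, hadd _ (g b).2 _ (g c).2, hg, hg, hg, Bmr] at h1
      exact h1
    have hβψ : ∀ v ∈ U, ∀ a b, β (ψ v * a) (ψ v * b) = β a b := fun v hv a b => by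
      have h1 := hβ (Coprime.conjAut hUH ⟨v, hv⟩ (g a)) (Coprime.conjAut hUH ⟨v, hv⟩ (g b))
      rw [Coprime.coe_conjAut, Coprime.coe_conjAut, (hψ v hv).2 _ (g a).2, (hψ v hv).2 _ (g b).2,
        hg, hg, Binv] at h1
      exact h1
    have hβ0 : ∀ b, β 0 b = 1 := fun b => by
      have h1 := hβl 0 0 b
      rw [add_zero] at h1
      exact (mul_eq_left.1 h1.symm)
    have hβ0' : ∀ a, β a 0 = 1 := fun a => by
      have h1 := hβr a 0 0
      rw [add_zero] at h1
      exact (mul_eq_left.1 h1.symm)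
    -- the radical is trivial
    let R : Subgroup ↥H :=
      { carrier := {x | ∀ y, B x y = 1}
        one_mem' := fun y => B0 1 y (by simp)
        mul_mem' := fun {a b} ha hb y => by rw [Bml, ha y, hb y, mul_one]
        inv_mem' := fun {a} ha y => by
          have h1 := Bml a⁻¹ a y
          rwa [inv_mul_cancel, B0 1 y (by simp), ha y, mul_one, eq_comm] at h1 }
    have hR : ∀ x : ↥H, x ∈ R → (x : G) ∈ H₀ := by
      rcases hgal (R.map H.subtype)
        (fun x hx => ⟨⟨x, hK.le hx⟩, fun y => B0 _ y hx, rfl⟩) (Subgroup.map_subtype_le _)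
        (fun v hv => Coprime.mem_normalizer_of_forall fun z hz => by
          obtain ⟨x, hx, rfl⟩ := hz
          refine ⟨Coprime.conjAut hUH ⟨v, hv⟩ x, fun y => ?_, rfl⟩
          obtain ⟨y', rfl⟩ := (Coprime.conjAut hUH ⟨v, hv⟩).surjective y
          rw [Binv, hx y']) with hR | hR
      · intro x hx
        rw [← hR]
        exact ⟨x, hx, rfl⟩
      · refine absurd (fun x y => ?_) hall
        obtain ⟨x', hx', hxx⟩ := hR.ge x.2
        rw [show x = x' from Subtype.ext hxx.symm]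
        exact hx' y
    have hnd : ∀ b, (∀ a, β a b = 1) → b = 0 := by
      intro b hb
      rw [← hg b, hker _ (g b).2]
      refine hR _ fun y => ?_
      rw [Bsw, ← hβ y (g b), hg, hb, inv_one]
    have huniq : ∀ t t' : K, (∀ a b, β a (t * b) = β a (t' * b)) → t = t' := fun t t' ht => by
      refine sub_eq_zero.1 (hnd _ fun a => ?_)
      have h1 := ht a 1
      rw [mul_one, mul_one] at h1
      have h2 := hβr a (t - t') t'
      rw [sub_add_cancel, h1] at h2
      exact mul_eq_right.1 h2.symm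
    -- every scalar has an adjoint
    let S : AddSubgroup K :=
      { carrier := {s | ∃ t : K, ∀ a b, β (s * a) b = β a (t * b)}
        zero_mem' := ⟨0, fun a b => by
          rw [zero_mul, zero_mul, hβ0]
          have h1 := hβr a 0 0
          rw [add_zero] at h1
          exact (mul_eq_left.1 h1.symm).symm⟩
        add_mem' := fun {s s'} ⟨t, ht⟩ ⟨t', ht'⟩ => ⟨t + t', fun a b => by
          rw [add_mul, add_mul, hβl, hβr, ht, ht']⟩
        neg_mem' := fun {s} ⟨t, ht⟩ => ⟨-t, fun a b => by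
          rw [neg_mul, neg_mul]
          have h1 := hβl (-(s * a)) (s * a) b
          have h2 := hβr a (-(t * b)) (t * b)
          rw [neg_add_cancel, hβ0, ht] at h1
          rw [neg_add_cancel, hβ0'] at h2
          exact mul_right_cancel (h1.symm.trans h2)⟩ }
    have hψS : ∀ v ∈ U, ∀ s ∈ S, ψ v * s ∈ S := by
      rintro v hv s ⟨t, ht⟩
      refine ⟨t * (ψ v)⁻¹, fun a b => ?_⟩
      have h1 := hβψ v hv (s * a) ((ψ v)⁻¹ * b)
      rw [mul_inv_cancel_left₀ (hψ v hv).1, ← mul_assoc] at h1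
      rw [h1, ht, mul_assoc]
    let N : Subgroup ↥H :=
      { carrier := {x | f x ∈ S}
        one_mem' := by show f ((1 : ↥H) : G) ∈ S; rw [OneMemClass.coe_one, hf1]; exact S.zero_mem
        mul_mem' := fun {a b} ha hb => by
          show f ((a * b : ↥H) : G) ∈ S
          rw [Subgroup.coe_mul, hadd _ a.2 _ b.2]
          exact S.add_mem ha hb
        inv_mem' := fun {a} ha => by
          show f ((a⁻¹ : ↥H) : G) ∈ S
          rw [Subgroup.coe_inv, hfinv _ a.2]
          exact S.neg_mem ha }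
    have hN : ∀ x : ↥H, f x ∈ S := by
      rcases hgal (N.map H.subtype)
        (fun x hx => ⟨⟨x, hK.le hx⟩, by
          show f x ∈ S
          rw [(hker x (hK.le hx)).2 hx]; exact S.zero_mem, rfl⟩) (Subgroup.map_subtype_le _)
        (fun v hv => Coprime.mem_normalizer_of_forall fun z hz => by
          obtain ⟨x, hx, rfl⟩ := hz
          refine ⟨Coprime.conjAut hUH ⟨v, hv⟩ x, ?_, rfl⟩
          show f _ ∈ S
          rw [Coprime.coe_conjAut, (hψ v hv).2 _ x.2]
          exact hψS v hv _ hx) with hN | hN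
      · exfalso
        have h1 : ((g 1 : ↥H) : G) ∈ N.map H.subtype :=
          ⟨g 1, by show f _ ∈ S; rw [hg]; exact ⟨1, fun a b => by rw [one_mul, one_mul]⟩, rfl⟩
        rw [hN, ← hker _ (g 1).2, hg] at h1
        exact one_ne_zero h1
      · intro x
        obtain ⟨x', hx', hxx⟩ := hN.ge x.2
        rw [show x = x' from Subtype.ext hxx.symm]
        exact hx'
    have hall' : ∀ s : K, ∃ t, ∀ a b, β (s * a) b = β a (t * b) := fun s => by
      have h1 := hN (g s)
      rwa [hg] at h1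
    choose σ hσ using hall'
    have hσσ : ∀ s, σ (σ s) = s := fun s => huniq _ _ fun a b => by
      rw [← hσ]
      show B (g (σ s * a)) (g b) = B (g a) (g (s * b))
      rw [Bsw (g b), Bsw (g (s * b))]
      exact congrArg _ (hσ s b a).symm
    let σe : K ≃+* K :=
      { toFun := σ
        invFun := σ
        left_inv := hσσ
        right_inv := hσσ
        map_mul' := fun s s' => huniq _ _ fun a b => by
          rw [← hσ, mul_assoc, hσ, hσ, ← mul_assoc, mul_comm (σ s') (σ s)]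
        map_add' := fun s s' => huniq _ _ fun a b => by
          rw [← hσ, add_mul, hβl, hσ, hσ, ← hβr, ← add_mul] }
    have hid := eq_id_of_sq hp (Hyp9.odd_card hG W₁) hKcard σe hσσ
    refine hCne (le_antisymm inf_le_left fun v hv => mem_of_sq_mem hG.1 ?_)
    rw [← hψC _ (pow_mem hv 2), pow_two]
    have h2 : σ (ψ v) = (ψ v)⁻¹ := huniq _ _ fun a b => by
      rw [← hσ]
      have h1 := hβψ v hv a ((ψ v)⁻¹ * b)
      rwa [mul_inv_cancel_left₀ (hψ v hv).1] at h1
    have h3 : σ (ψ v) = ψ v := hid (ψ v)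
    have h4 : ψ v * ψ v = 1 := by
      rw [h3] at h2
      nth_rw 2 [h2]
      exact mul_inv_cancel₀ (hψ v hv).1
    have h5 : ψ (v * v) = ψ v * ψ v := hψm v hv v hv
    rw [h5, h4]
  · obtain ⟨H₁, hline, hsup, hlt, -, -, -⟩ := F9.nonGalois_line M W₁ U W₂ H₀ h hK hgal
    have hW1M : W₁ ≤ Subgroup.normalizer (H : Set G) :=
      h.le_M.2.2.2.1.trans (le_normalizer_fittingHallOf M)
    have hW1U : W₁ ≤ Subgroup.normalizer (U : Set G) := h.U_normalized
    -- a generator of the line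
    have hprime : (H₀.relIndex H₁).Prime := by rw [hline.card]; exact hp
    obtain ⟨x₁, hx₁, hx₁0⟩ : ∃ x ∈ H₁, x ∉ H₀ := by
      by_contra hcon
      push Not at hcon
      have : H₀.relIndex H₁ = 1 := Subgroup.relIndex_eq_one.2 hcon
      rw [this] at hprime
      exact Nat.not_prime_one hprime
    haveI : (H₀.subgroupOf H₁).Normal := Subgroup.normal_subgroupOf_of_le_normalizer
      ((hline.le_H.trans (OddTypeP.fittingHallOf_le M)).trans hK.normal)
    have hgen : ∀ x ∈ H₁, ∃ k : ℕ, (x₁ ^ k)⁻¹ * x ∈ H₀ := by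
      intro x hx
      haveI := Fact.mk hprime
      have h1 := mem_powers_of_prime_card (G := ↥H₁ ⧸ H₀.subgroupOf H₁) (p := H₀.relIndex H₁)
        (g := QuotientGroup.mk ⟨x₁, hx₁⟩) (g' := QuotientGroup.mk ⟨x, hx⟩) rfl
        (fun e => hx₁0 (Subgroup.mem_subgroupOf.1 ((QuotientGroup.eq_one_iff _).1 e)))
      obtain ⟨k, hk⟩ := Submonoid.mem_powers_iff _ _ |>.1 h1
      rw [← QuotientGroup.mk_pow, QuotientGroup.eq, Subgroup.mem_subgroupOf] at hk
      exact ⟨k, by simpa using hk⟩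
    let cj : W₁ → ↥H → ↥H := fun e x => Coprime.conjAut hW1M e x
    let X₁ : ↥H := ⟨x₁, hline.le_H hx₁⟩
    -- a nonzero value on two lines
    obtain ⟨e, e', hz⟩ : ∃ e e' : W₁, B (cj e X₁) (cj e' X₁) ≠ 1 := by
      by_contra hcon
      push Not at hcon
      refine hall fun x y => ?_
      have hspan : ∀ (P : Subgroup ↥H), (∀ x : ↥H, (x : G) ∈ H₀ → x ∈ P) → (∀ e, cj e X₁ ∈ P) →
          P = ⊤ := by
        intro P hP0 hP1
        refine eq_top_iff.2 fun z _ => ?_
        have hle : H ≤ P.map H.subtype := by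
          conv_lhs => rw [hH, ← hsup]
          refine iSup₂_le fun w hw => ?_
          rintro _ ⟨a, ha, rfl⟩
          obtain ⟨k, hk⟩ := hgen a ha
          have ha' : a ∈ H := hline.le_H ha
          refine ⟨cj ⟨w, hw⟩ ⟨a, ha'⟩, ?_, rfl⟩
          have e1 : (⟨a, ha'⟩ : ↥H) = X₁ ^ k * ⟨(x₁ ^ k)⁻¹ * a, hK.le hk⟩ := Subtype.ext (by
            simp [X₁])
          rw [e1]
          simp only [cj, map_mul, map_pow]
          refine P.mul_mem (P.pow_mem (hP1 _) _) (hP0 _ ?_)
          show ((Coprime.conjAut hW1M ⟨w, hw⟩ _ : ↥H) : G) ∈ H₀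
          rw [Coprime.coe_conjAut]
          exact conj_mem_of_le_normalizer hK.normal (h.le_M.2.2.2.1 hw) hk
        obtain ⟨z', hz', hzz⟩ := hle z.2
        rwa [show z = z' from Subtype.ext hzz.symm]
      let L : ↥H → Subgroup ↥H := fun y =>
        { carrier := {x | B x y = 1}
          one_mem' := B0 1 y (by simp)
          mul_mem' := fun {a b} ha hb => by
            show B (a * b) y = 1
            rw [Bml, show B a y = 1 from ha, show B b y = 1 from hb, mul_one]
          inv_mem' := fun {a} ha => by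
            show B a⁻¹ y = 1
            have h1 := Bml a⁻¹ a y
            rwa [inv_mul_cancel, B0 1 y (by simp), show B a y = 1 from ha, mul_one, eq_comm] at h1 }
      have h1 : ∀ e' x, B x (cj e' X₁) = 1 := fun e' x => by
        have := hspan (L (cj e' X₁)) (fun x hx => B0 x _ hx) (fun e => hcon e e')
        exact (this ▸ Subgroup.mem_top x : x ∈ L (cj e' X₁))
      have := hspan (L x) (fun y hy => B0 y _ hy) (fun e => by
        show B (cj e X₁) x = 1
        rw [Bsw, h1, inv_one])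
      have h2 : y ∈ L x := this ▸ Subgroup.mem_top y
      rw [Bsw, show B y x = 1 from h2, inv_one]
    have hne : e ≠ e' := by
      rintro rfl
      exact hz (commutatorElement_self _)
    set z := B (cj e X₁) (cj e' X₁) with hzdef
    haveI := Fact.mk (prime_W₂ F9 h hK hnII)
    have hord : orderOf z = Nat.card W₂ := orderOf_eq_prime (Bp _ _) hz
    -- the exponent by which `U` acts on the line
    have hact : ∀ v, ∃ k : ℕ, v ∈ U → (x₁ ^ k)⁻¹ * (v * x₁ * v⁻¹) ∈ H₀ := by
      intro v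
      by_cases hv : v ∈ U
      · obtain ⟨k, hk⟩ := hgen (v * x₁ * v⁻¹) (conj_mem_of_le_normalizer hline.normal hv hx₁)
        exact ⟨k, fun _ => hk⟩
      · exact ⟨0, fun h => absurd h hv⟩
    choose a ha using hact
    have hconj : ∀ (v : G), v ∈ U → ∀ f : W₁, (f : G)⁻¹ * v * f ∈ U := fun v hv f => by
      have := conj_mem_of_le_normalizer hW1U (W₁.inv_mem f.2) hv
      simpa using this
    let A : G → ZMod (Nat.card W₂) := fun v => (a v : ZMod (Nat.card W₂))
    have hprod : ∀ v ∈ U, A ((e : G)⁻¹ * v * e) * A ((e' : G)⁻¹ * v * e') = 1 := by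
      intro v hv
      have hrep : ∀ f : W₁, (((cj f X₁) ^ a ((f : G)⁻¹ * v * f))⁻¹ *
          Coprime.conjAut hUH ⟨v, hv⟩ (cj f X₁) : ↥H).1 ∈ H₀ := by
        intro f
        have h1 := conj_mem_of_le_normalizer hK.normal (h.le_M.2.2.2.1 f.2) (ha _ (hconj v hv f))
        simp only [Subgroup.coe_mul, Subgroup.coe_inv, SubmonoidClass.coe_pow, cj, X₁,
          Coprime.coe_conjAut, conj_pow]
        convert h1 using 1
        group
      have h1 := Bcongr _ _ _ _ (hrep e) (hrep e')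
      rw [Binv] at h1
      have h2 : z = z ^ (a ((e : G)⁻¹ * v * e) * a ((e' : G)⁻¹ * v * e')) := by
        conv_lhs => rw [hzdef, h1]
        show ⁅π _, π _⁆ = _
        rw [map_pow, map_pow, pair_pow_left hc, pair_pow_right hc, ← pow_mul, mul_comm]
      nth_rw 1 [← pow_one z] at h2
      rw [pow_eq_pow_iff_modEq, hord, ← ZMod.natCast_eq_natCast_iff] at h2
      push_cast at h2
      exact h2.symm
    set k := (e : G)⁻¹ * e' with hk
    have hkW : k ∈ W₁ := W₁.mul_mem (W₁.inv_mem e.2) e'.2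
    have hk1 : k ≠ 1 := fun e1 => hne (Subtype.ext (inv_mul_eq_one.1 e1))
    have hstep : ∀ u ∈ U, A u * A (k⁻¹ * u * k) = 1 := by
      intro u hu
      have hv : (e : G) * u * (e : G)⁻¹ ∈ U := conj_mem_of_le_normalizer hW1U e.2 hu
      have h1 := hprod _ hv
      rw [show (e : G)⁻¹ * ((e : G) * u * (e : G)⁻¹) * e = u by group,
        show (e' : G)⁻¹ * ((e : G) * u * (e : G)⁻¹) * e' = k⁻¹ * u * k by rw [hk]; group] at h1
      exact h1
    have hkU : ∀ u ∈ U, k⁻¹ * u * k ∈ U := fun u hu => hconj u hu ⟨k, hkW⟩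
    have htwo : ∀ u ∈ U, ∀ m : ℕ, A ((k ^ (2 * m))⁻¹ * u * k ^ (2 * m)) = A u := by
      intro u hu m
      induction m with
      | zero => simp
      | succ m ih =>
        set w := (k ^ (2 * m))⁻¹ * u * k ^ (2 * m) with hw
        have hwU : w ∈ U := hconj u hu ⟨_, pow_mem hkW _⟩
        have h1 := hstep w hwU
        have h2 := hstep _ (hkU w hwU)
        rw [show (k ^ (2 * (m + 1)))⁻¹ * u * k ^ (2 * (m + 1)) = k⁻¹ * (k⁻¹ * w * k) * k by
          rw [hw, show 2 * (m + 1) = 2 * m + 2 by ring, pow_add]; group, ← ih]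
        calc A (k⁻¹ * (k⁻¹ * w * k) * k)
            = (A w * A (k⁻¹ * w * k)) * A (k⁻¹ * (k⁻¹ * w * k) * k) := by rw [h1, one_mul]
          _ = A w * (A (k⁻¹ * w * k) * A (k⁻¹ * (k⁻¹ * w * k) * k)) := mul_assoc _ _ _
          _ = A w := by rw [h2, mul_one]
    have hsq : ∀ u ∈ U, A u * A u = 1 := by
      intro u hu
      have hkord : orderOf k = Nat.card W₁ :=
        ((Nat.dvd_prime h.prime).1 (Subgroup.orderOf_dvd_natCard _ hkW)).resolve_left
          (fun e1 => hk1 (orderOf_eq_one_iff.1 e1))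
      obtain ⟨j, hj⟩ := Hyp9.odd_card hG W₁
      have e1 : k ^ (2 * (j + 1)) = k := by
        rw [show 2 * (j + 1) = orderOf k + 1 by omega, pow_succ, pow_orderOf_eq_one, one_mul]
      have h1 := htwo u hu (j + 1)
      rw [e1] at h1
      have h2 := hstep u hu
      rwa [h1] at h2
    have hT : U ⊓ quotStab H₁ H₀ = U := by
      refine le_antisymm inf_le_left fun u hu => mem_of_sq_mem hG.1 ⟨pow_mem hu 2, ?_⟩
      have hn1 : u ^ 2 ∈ Subgroup.normalizer (H₁ : Set G) := pow_mem (hline.normal hu) 2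
      have hn0 : u ^ 2 ∈ Subgroup.normalizer (H₀ : Set G) :=
        pow_mem (hK.normal (h.le_M.2.2.2.2 hu)) 2
      refine ⟨hn1, hn0, fun y hy => ?_⟩
      haveI : (H₀.subgroupOf H).Normal := hK.quot_normal
      let q₀ := QuotientGroup.mk' (H₀.subgroupOf H)
      have hmem : ∀ P : ↥H, q₀ P = 1 ↔ (P : G) ∈ H₀ := fun P => by
        rw [QuotientGroup.mk'_apply, QuotientGroup.eq_one_iff, Subgroup.mem_subgroupOf]
      have hconjq : ∀ (v : U) (P P' : ↥H), q₀ P = q₀ P' →
          q₀ (Coprime.conjAut hUH v P) = q₀ (Coprime.conjAut hUH v P') := fun v P P' he => by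
        rw [QuotientGroup.mk'_apply, QuotientGroup.mk'_apply, QuotientGroup.eq,
          Subgroup.mem_subgroupOf] at he ⊢
        rw [← map_inv, ← map_mul, Coprime.coe_conjAut]
        exact conj_mem_of_le_normalizer hK.normal (h.le_M.2.2.2.2 v.2) he
      have hv1 : q₀ (Coprime.conjAut hUH ⟨u, hu⟩ X₁) = q₀ (X₁ ^ a u) := by
        rw [QuotientGroup.mk'_apply, QuotientGroup.mk'_apply, eq_comm, QuotientGroup.eq,
          Subgroup.mem_subgroupOf]
        simpa [Coprime.coe_conjAut, X₁] using ha u hu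
      have hv2 : q₀ (Coprime.conjAut hUH ⟨u, hu⟩ (Coprime.conjAut hUH ⟨u, hu⟩ X₁)) =
          q₀ (X₁ ^ (a u * a u)) := by
        rw [hconjq _ _ _ hv1, map_pow (Coprime.conjAut hUH ⟨u, hu⟩), map_pow q₀, hv1, map_pow q₀,
          map_pow q₀, ← pow_mul]
      have hmod : a u * a u ≡ 1 [MOD Nat.card W₂] := by
        rw [← ZMod.natCast_eq_natCast_iff]; push_cast; exact hsq u hu
      have hxp : q₀ X₁ ^ Nat.card W₂ = 1 := by
        rw [← map_pow, hmem, SubmonoidClass.coe_pow, ← factorPrime_eq F9 h hK hnII]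
        exact hexp x₁ (hline.le_H hx₁)
      rw [map_pow, pow_eq_pow_of_modEq hmod hxp, pow_one] at hv2
      obtain ⟨i, hi⟩ := hgen y hy
      let Y : ↥H := ⟨y, hline.le_H hy⟩
      have hY : q₀ Y = q₀ X₁ ^ i := by
        rw [← map_pow, QuotientGroup.mk'_apply, QuotientGroup.mk'_apply, eq_comm, QuotientGroup.eq,
          Subgroup.mem_subgroupOf]
        simpa [X₁, Y] using hi
      have h1 := hconjq ⟨u, hu⟩ _ _ (hconjq ⟨u, hu⟩ Y (X₁ ^ i) (by rw [hY, map_pow]))
      rw [map_pow (Coprime.conjAut hUH ⟨u, hu⟩), map_pow (Coprime.conjAut hUH ⟨u, hu⟩), map_pow,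
        hv2, ← hY, QuotientGroup.mk'_apply, QuotientGroup.mk'_apply, eq_comm, QuotientGroup.eq,
        Subgroup.mem_subgroupOf] at h1
      convert h1 using 1
      simp only [Subgroup.coe_mul, Subgroup.coe_inv, Coprime.coe_conjAut, Y, pow_two]
      group
    rw [hT, Subgroup.relIndex_self] at hlt
    exact lt_irrefl 1 hlt

end Cfsg.Agent.Peterfalvi
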