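import Cfsg.Agent.Lib.Peterfalvi.Sec11.Derived
import Cfsg.Agent.Lib.Peterfalvi.Sec11.Chars

/-!
# Peterfalvi section 11 (owner: helper43)

* `card_lt` : (11.9)(b), `p < q`
* `sec11Facts` : the interface, from (10.8) and section 9
-/

set_option autoImplicit false

namespace Cfsg.Agent.Peterfalvi

open scoped Pointwise commutatorElement
open Cfsg OddMax Cfsg.Agent.Coherence

universe u

variable {G : Type u} [Group G] [Fintype G] {M W₁ U W₂ H₀ : Subgroup G}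
variable (F9 : Sec9Facts G) (h : Hyp9 M W₁ U W₂) (hK : IsChiefKernel M U H₀) (hnII : ¬ IsOfTypeII M)
include F9 h hK hnII

/-- (11.9)(b) -/
theorem card_lt_of_kernel (hG : IsMinSimpleOddOrder G) [Fintype ↥M] (N10 : NonCoherence G)
    (R5 : DerivedSystem G) : Nat.card W₂ < Nat.card W₁ := by
  by_contra hge
  push Not at hge
  set q := Nat.card W₁ with hqdef
  set p := Nat.card W₂ with hpdef
  set H := fittingHallOf M with hHdef
  set C := stabC M U H₀ with hCdef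
  set u := C.relIndex U with hudef
  have hlt : q + 1 < p := by
    have hne : q ≠ p := fun e => by
      have h1 : q.Coprime p := h.coprime_W₂
      rw [← e, Nat.coprime_self] at h1
      have := h.three_le hG
      omega
    obtain ⟨a, ha⟩ := Hyp9.odd_card hG W₁
    obtain ⟨b, hb⟩ := Hyp9.odd_card hG W₂
    omega
  obtain ⟨-, h0, hcardH, hel⟩ := kernel_facts F9 h hK hnII hG N10 R5
  obtain ⟨-, -, -, -, -, hTn, hXC, -⟩ := F9.factor M W₁ U W₂ H₀ h hK
  have hcent : C ≤ Subgroup.centralizer (H : Set G) := stab_centralizes F9 h hK hnII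
  have hCn : M ≤ Subgroup.normalizer (C : Set G) := by
    rw [← OddMax.compl_eq_sup h.data.W₁_compl, ← OddMax.compl_eq_sup h.data.U_compl]
    refine _root_.sup_le (_root_.sup_le ?_ (le_sup_left.trans hXC)) (le_sup_right.trans hXC)
    exact (Subgroup.le_centralizer_iff.1 hcent).trans (Subgroup.centralizer_le_normalizer _)
  have hCH : C ≤ Subgroup.normalizer (H : Set G) :=
    hcent.trans (Subgroup.centralizer_le_normalizer _)
  have hCTeq : ∀ {t}, t ∈ H ⊔ C → ∃ a ∈ H, ∃ b ∈ C, a * b = t := fun ht =>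
    (Coprime.mem_sup_iff hCH).1 ht
  have hTD : H ⊔ C ≤ ⁅M, M⁆ := sup_stab_le_derived F9 h hK hnII
  have hdd : ⁅⁅M, M⁆, ⁅M, M⁆⁆ = H ⊔ C := derived_two_eq F9 h hK hnII hG N10 R5
  have hWT : W₂ ≤ H ⊔ C := (h.data.W₂_le.trans inf_le_left).trans le_sup_left
  have hTC : ∀ a ∈ H ⊔ C, ∀ b ∈ H ⊔ C, a * b * a⁻¹ * b⁻¹ ∈ C := by
    intro a ha b hb
    obtain ⟨a₁, ha₁, a₂, ha₂, rfl⟩ := hCTeq ha
    obtain ⟨b₁, hb₁, b₂, hb₂, rfl⟩ := hCTeq hb
    have c1 : Commute a₁ b₁ := congrArg Subtype.val (hel.1.is_comm.comm ⟨a₁, ha₁⟩ ⟨b₁, hb₁⟩)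
    have c2 : Commute a₁ b₂ := Subgroup.mem_centralizer_iff.1 (hcent hb₂) a₁ ha₁
    have c3 : Commute b₁ a₂ := Subgroup.mem_centralizer_iff.1 (hcent ha₂) b₁ hb₁
    have c4 : Commute a₁ a₂ := Subgroup.mem_centralizer_iff.1 (hcent ha₂) a₁ ha₁
    have c5 : Commute b₁ b₂ := Subgroup.mem_centralizer_iff.1 (hcent hb₂) b₁ hb₁
    have hab : Commute (a₁ * b₁) (a₂ * b₂) :=
      (c4.mul_right c2).mul_left (c3.mul_right c5)
    have hba : Commute (b₁ * a₁) (b₂ * a₂) :=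
      (c5.mul_right c3).mul_left (c2.mul_right c4)
    have e1 : a₁ * a₂ * (b₁ * b₂) = a₁ * b₁ * (a₂ * b₂) := by
      rw [mul_assoc, ← mul_assoc a₂, c3.symm.eq]; group
    have e2 : b₁ * b₂ * (a₁ * a₂) = a₁ * b₁ * (b₂ * a₂) := by
      rw [c1.eq, mul_assoc, ← mul_assoc b₂, c2.symm.eq]; group
    have e : a₁ * a₂ * (b₁ * b₂) * (a₁ * a₂)⁻¹ * (b₁ * b₂)⁻¹ = (a₂ * b₂) * (b₂ * a₂)⁻¹ := by
      rw [mul_assoc (a₁ * a₂ * (b₁ * b₂)), ← mul_inv_rev, e1, e2, mul_inv_rev,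
        mul_assoc (a₁ * b₁), ← mul_assoc (a₂ * b₂)]
      have hc : Commute (a₁ * b₁) (a₂ * b₂ * (b₂ * a₂)⁻¹) := by
        refine hab.mul_right (Commute.inv_right ?_)
        rw [c1.eq]
        exact hba
      rw [← mul_assoc, hc.eq, mul_inv_cancel_right]
    rw [e]
    exact mul_mem (mul_mem ha₂ hb₂) (inv_mem (mul_mem hb₂ ha₂))
  -- the characters
  obtain ⟨μ, δ, η, R, hc⟩ := exists_typePChars hG h.coatom h.data
  have hσ : ⁅M, M⁆ = sigmaCore M := derived_eq_sigmaCore hG h.coatom h.data hnII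
  have hA : ∀ x ∈ ⁅M, M⁆, x ≠ 1 → x ∈ coreA0 M := fun x hx hx1 =>
    Or.inl (coreA1_subset_coreA hG (OddOrder14.sec16 hG) h.coatom ⟨hσ ▸ hx, hx1⟩)
  obtain ⟨⟨ω₁, hω₁⟩, hω1⟩ : ∃ j : Sec11.trivOn W₁ W₂ W₁, j ≠ 1 := by
    have hT := hc.dade.toPrimeTI
    have hcard : Nat.card (Sec11.trivOn W₁ W₂ W₁) = p := CyclicTI.card_lin_factor₂ hT.isPair hT.comm
    have : Nontrivial (Sec11.trivOn W₁ W₂ W₁) :=
      (Finite.one_lt_card_iff_nontrivial (α := Sec11.trivOn W₁ W₂ W₁)).1 (by omega)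
    exact exists_ne 1
  have hω1' : ω₁ ≠ 1 := fun e => hω1 (Subtype.ext e)
  have hωc : ¬ SameCol ω₁ 1 := fun e =>
    hω1' (hc.dade.toPrimeTI.isPair.lin_ext (fun w hw => hω₁ w hw) e)
  have hu : (H ⊔ C).relIndex ⁅M, M⁆ = u := sup_stab_index F9 h hK hnII
  have hdeg : μ ω₁ 1 = (u : ℂ) := by
    have hmem : colSum μ ω₁ ∈ calS M H₀ := by
      obtain ⟨a, haW, hne⟩ := Sec11.exists_witness hc hωc
      refine ⟨_, ⟨(hc.mu.resK_facts ω₁).1, fun b hb => ?_, a, (h.data.W₂_le haW).1, hne⟩,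
        (hc.mu.resK_facts ω₁).2⟩
      rw [h0, Subgroup.mem_bot] at hb
      rw [show b = 1 from Subtype.ext (Subtype.ext hb)]
    have h1 := ((F9.reducible_core_ind M W₁ U W₂ H₀ h hK).2 _ hmem
      (hc.dade.colSum_not_irr hc.mu ω₁)).2.1
    rw [hc.mu.colSum_apply_K ω₁ (one_mem _), ← hqdef, ← hCdef, ← hudef, Nat.cast_mul] at h1
    exact mul_left_cancel₀ (Nat.cast_ne_zero.2 (by have := h.three_le hG; omega)) h1
  have humod : u ≡ 1 [MOD q] := by
    rw [← hu]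
    exact modEq_one h hG le_rfl hTD (le_normalizer_commutator_self M) hTn hWT
  refine not_coherent_of_index F9 h hK hnII hG N10 R5 (X := C) le_sup_right hCn ?_ ?_
  · refine le_of_eq ?_
    refine (Nat.eq_of_mul_eq_mul_left (Nat.card_pos (α := C)) ?_).symm
    rw [OddMax.card_mul_relIndex le_sup_right, card_sup_stab F9 h hK hnII, ← hcardH, mul_comm]
  · exact Sec11.coherent_above hc hσ hA h.prime hlt le_sup_right hTD hTn hCn hTC hdd.le hWT
      hω₁ hω1' hu hdeg (two_le_index F9 h hK hnII) humod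

omit hK in
/-- (11.9)(b) -/
theorem card_lt_of_facts (hG : IsMinSimpleOddOrder G) (N10 : NonCoherence G)
    (R5 : DerivedSystem G) : Nat.card W₂ < Nat.card W₁ := by
  have := Fintype.ofFinite ↥M
  obtain ⟨H₀, hK⟩ := F9.exists_kernel M W₁ U W₂ h
  exact card_lt_of_kernel F9 h hK hnII hG N10 R5

omit F9 h hK hnII in
/-- The results of section 11. -/
theorem sec11Facts (hG : IsMinSimpleOddOrder G) (F9 : Sec9Facts G) (N10 : NonCoherence G) :
    Sec11Facts G where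
  derived_two M W₁ U W₂ H₀ h hK hnII := by
    have := Fintype.ofFinite ↥M
    exact ⟨derived_two_eq F9 h hK hnII hG N10 (derivedSystem hG),
      (kernel_facts F9 h hK hnII hG N10 (derivedSystem hG)).1⟩
  kernel_trivial M W₁ U W₂ H₀ h hK hnII := by
    have := Fintype.ofFinite ↥M
    obtain ⟨-, h0, hcard, hel⟩ := kernel_facts F9 h hK hnII hG N10 (derivedSystem hG)
    exact ⟨h0, prime_W₂ F9 h hK hnII, hcard, hel⟩
  card_lt M W₁ U W₂ h hnII := card_lt_of_facts F9 h hnII hG N10 (derivedSystem hG)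

end Cfsg.Agent.Peterfalvi
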